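import Mathlib.Data.Fin.VecNotation
import Mathlib.Data.Fintype.Pi
import Mathlib.Tactic.FinCases
import Mathlib.Logic.Function.Iterate
import Mathlib.Tactic.NormNum

/-!
Kernel-checked search for the extension of `i ↦ i + 1`, `i ↦ 3 i` on thirteen points by an
involution inverting the latter.
-/

set_option autoImplicit false

namespace Cfsg.Agent.Lib.RecogThree.L33.Cert

/-- `i ↦ i + 1`. -/
def X : Fin 13 → Fin 13 := ![1, 2, 3, 4, 5, 6, 7, 8, 9, 10, 11, 12, 0]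

/-- `i ↦ 3 i`. -/
def Y : Fin 13 → Fin 13 := ![0, 3, 6, 9, 12, 2, 5, 8, 11, 1, 4, 7, 10]

/-- The chosen involution. -/
def U0 : Fin 13 → Fin 13 := ![0, 1, 2, 9, 10, 6, 5, 11, 8, 3, 4, 7, 12]

/-- The map determined by the images of `1`, `2`, `4` and `7`. -/
def U (c d f g : Fin 13) : Fin 13 → Fin 13 :=
  ![0, c, d, Y (Y c), f, Y d, Y (Y d), g, Y (Y g), Y c, Y f, Y g, Y (Y f)]

/-- Multiplication by a nonzero residue. -/
def M (s : Fin 12) (i : Fin 13) : Fin 13 := ⟨(s.1 + 1) * i.1 % 13, Nat.mod_lt _ (by norm_num)⟩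

/-- The test words. -/
def words (u : Fin 13 → Fin 13) : List (Fin 13 → Fin 13) :=
  [X ∘ u, X ∘ X ∘ Y ∘ Y ∘ u, X ∘ Y ∘ Y ∘ u, X ∘ Y ∘ u, X ∘ u ∘ X^[2] ∘ u, X ∘ u ∘ X^[7] ∘ u]

/-- An element of forbidden order. -/
def Forbidden (q : Fin 13 → Fin 13) : Prop :=
  ∃ i j : Fin 13, q^[72] i ≠ i ∧ q^[13] j ≠ j

/-- Some test word has forbidden order. -/
def bad (u : Fin 13 → Fin 13) : Bool :=
  (words u).any fun q => (List.finRange 13).any (fun i => q^[72] i != i) &&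
    (List.finRange 13).any (fun i => q^[13] i != i)

theorem bad_iff {u : Fin 13 → Fin 13} (h : bad u = true) : ∃ q ∈ words u, Forbidden q := by
  simp only [bad, List.any_eq_true, Bool.and_eq_true, bne_iff_ne, List.mem_finRange, true_and] at h
  obtain ⟨q, hq, ⟨i, hi⟩, j, hj⟩ := h
  exact ⟨q, hq, i, j, hi, hj⟩

theorem search : ∀ c d f g : Fin 13, (∀ i, U c d f g (U c d f g i) = i) →
    (∃ s : Fin 12, ∀ i, U c d f g (M s i) = M s (U0 i)) ∨ bad (U c d f g) = true := by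
  decide +kernel

theorem U_table : ∀ i : Fin 13, i = 0 ∨ ∃ k : Fin 3,
    i = Y^[k.1] 1 ∨ i = Y^[k.1] 2 ∨ i = Y^[k.1] 4 ∨ i = Y^[k.1] 7 := by
  decide +kernel

theorem U_zero : ∀ c d f g : Fin 13, U c d f g 0 = 0 := fun _ _ _ _ => rfl

theorem Y_cube : ∀ i : Fin 13, Y (Y (Y i)) = i := by decide +kernel

theorem U_eval (c d f g : Fin 13) (k : Fin 3) :
    U c d f g (Y^[k.1] 1) = Y^[2 * k.1] c ∧ U c d f g (Y^[k.1] 2) = Y^[2 * k.1] d ∧
      U c d f g (Y^[k.1] 4) = Y^[2 * k.1] f ∧ U c d f g (Y^[k.1] 7) = Y^[2 * k.1] g := by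
  fin_cases k
  · exact ⟨rfl, rfl, rfl, rfl⟩
  · exact ⟨rfl, rfl, rfl, rfl⟩
  · refine ⟨?_, ?_, ?_, ?_⟩
    · exact congrArg Y (Y_cube c).symm
    · exact congrArg Y (Y_cube d).symm
    · exact congrArg Y (Y_cube f).symm
    · exact congrArg Y (Y_cube g).symm

theorem M_facts : ∀ s : Fin 12, (∀ i, M s (X i) = X^[s.1 + 1] (M s i)) ∧
    (∀ i, M s (Y i) = Y (M s i)) ∧ Function.Injective (M s) := by
  unfold Function.Injective
  decide +kernel

theorem Y_fixed : ∀ i : Fin 13, Y (Y i) = i → i = 0 := by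
  decide +kernel

theorem X_Y : ∀ i : Fin 13, (X i).1 = (i.1 + 1) % 13 ∧ (Y i).1 = 3 * i.1 % 13 := by
  decide +kernel

end Cfsg.Agent.Lib.RecogThree.L33.Cert
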