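import Cfsg.Agent.Lib.RecogThree.L33.Setup
import Cfsg.Agent.Lib.SmallGroups.Counting

/-!
The number of nontrivial elements of `3`-power order is `728`.
-/

set_option autoImplicit false
set_option linter.style.haveILetI false
set_option linter.unusedSectionVars false

namespace Cfsg.Agent.Lib.RecogThree.L33.Count

open Cfsg.Agent.Lib.Induced GL23 GL23Exceptional

universe u

variable {G : Type u} [Group G] [Finite G] [IsSimpleGroup G] {t : G}
  (e : Subgroup.centralizer ({t} : Set G) ≃* Matrix.GeneralLinearGroup (Fin 2) (ZMod 3))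
  (hG : Nat.card G = 5616) (ht : orderOf t = 2)
include e hG ht

theorem card_invol : Nat.card {i : G // orderOf i = 2} = 117 := by
  have h := SmallGroups.Counting.card_isConj_mul t
  rw [card_centralizer e, hG] at h
  have hc : Nat.card {i : G // orderOf i = 2} = Nat.card {y : G // IsConj t y} := by
    refine Nat.card_congr (Equiv.subtypeEquivRight fun i => ⟨fun hi => ?_, fun hi => ?_⟩)
    · obtain ⟨g, hg⟩ := Setup.all_conj e hG ht hi
      exact isConj_iff.mpr ⟨g, hg⟩
    · obtain ⟨g, rfl⟩ := isConj_iff.mp hi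
      exact ((MulAut.conj g).orderOf_eq t).trans ht
  omega

/-- The involution in `⟨g⟩`. -/
noncomputable def invOf (g : G) : G := g ^ (orderOf g / 2)

omit [IsSimpleGroup G] e hG ht in
theorem orderOf_invOf {g : G} (hg : 2 ∣ orderOf g) : orderOf (invOf g) = 2 := by
  obtain ⟨m, hm⟩ := hg
  have hm0 : m ≠ 0 := fun e' => by simp [e', (orderOf_pos g).ne'] at hm
  rw [invOf, hm, Nat.mul_div_cancel_left _ (by norm_num : 0 < 2), orderOf_pow' _ hm0, hm,
    Nat.gcd_eq_right (dvd_mul_left m 2), Nat.mul_div_cancel _ (Nat.pos_of_ne_zero hm0)]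

omit [IsSimpleGroup G] e hG ht in
theorem invOf_eq {g i : G} (hi : orderOf i = 2) (hmem : i ∈ Subgroup.zpowers g) :
    2 ∣ orderOf g ∧ invOf g = i := by
  obtain ⟨k, hk⟩ := mem_powers_iff_mem_zpowers.mpr hmem
  have hk' : g ^ k = i := hk
  have hdvd : 2 ∣ orderOf g := hi ▸ orderOf_dvd_of_mem_zpowers hmem
  refine ⟨hdvd, ?_⟩
  obtain ⟨m, hm⟩ := hdvd
  have h1 : g ^ (2 * k) = 1 := by rw [mul_comm, pow_mul, hk', ← hi, pow_orderOf_eq_one]
  have h2 := orderOf_dvd_of_pow_eq_one h1
  rw [hm] at h2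
  obtain ⟨j, rfl⟩ : m ∣ k := Nat.dvd_of_mul_dvd_mul_left (by norm_num) h2
  rw [invOf, hm, Nat.mul_div_cancel_left _ (by norm_num : 0 < 2), ← hk']
  rcases Nat.even_or_odd j with ⟨r, rfl⟩ | ⟨r, rfl⟩
  · exfalso
    have : i = 1 := by
      rw [← hk', show m * (r + r) = orderOf g * r by rw [hm]; ring, pow_mul, pow_orderOf_eq_one,
        one_pow]
    rw [this, orderOf_one] at hi
    omega
  · rw [show m * (2 * r + 1) = orderOf g * r + m by rw [hm]; ring, pow_add, pow_mul,
      pow_orderOf_eq_one, one_pow, one_mul]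

theorem card_fibre (i : {i : G // orderOf i = 2}) :
    Nat.card {g : G // 2 ∣ orderOf g ∧ invOf g = i.1} = 27 := by
  obtain ⟨u, hu⟩ := Setup.all_conj e hG ht i.2
  have h1 : Nat.card {g : G // 2 ∣ orderOf g ∧ invOf g = i.1} =
      Nat.card {g : G // t ∈ Subgroup.zpowers g} := by
    refine Nat.card_congr ((MulAut.conj u⁻¹).toEquiv.subtypeEquiv fun g => ?_)
    show _ ↔ t ∈ Subgroup.zpowers (MulAut.conj u⁻¹ g)
    have ht' : t = MulAut.conj u⁻¹ i.1 := by
      rw [← hu, MulAut.conj_apply]; group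
    rw [ht', ← MulEquiv.coe_toMonoidHom, ← MonoidHom.map_zpowers,
      Subgroup.mem_map_iff_mem (MulAut.conj u⁻¹).injective]
    constructor
    · rintro ⟨h2, h3⟩
      rw [← h3]
      exact Subgroup.pow_mem _ (Subgroup.mem_zpowers g) _
    · exact invOf_eq i.2
  rw [h1, ← Setup.gl_fibre, ← Fintype.card_coe, ← Nat.card_eq_fintype_card]
  have hmem : ∀ g : {g : G // t ∈ Subgroup.zpowers g},
      g.1 ∈ Subgroup.centralizer ({t} : Set G) := fun g => by
    obtain ⟨k, hk⟩ := Subgroup.mem_zpowers_iff.mp g.2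
    refine Subgroup.mem_centralizer_singleton_iff.mpr ?_
    have hc := ((Commute.refl g.1).zpow_right k).eq
    rwa [hk] at hc
  refine Nat.card_eq_of_bijective (fun g => ⟨q e ⟨g.1, hmem g⟩, Finset.mem_filter.mpr
    ⟨q_mem e _, ?_⟩⟩) ⟨fun x y hxy => Subtype.ext (congrArg
      (fun w : Subgroup.centralizer ({t} : Set G) => (w : G))
      (q_injective e (congrArg Subtype.val hxy)) :), fun z => ?_⟩
  · obtain ⟨k, hk⟩ := mem_powers_iff_mem_zpowers.mpr g.2
    have h24 : g.1 ^ 24 = 1 :=
      Setup.pow_24 e (Subgroup.mem_centralizer_singleton_iff.mp (hmem g))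
    have h8 : orderOf g.1 < 9 := by
      have hd := orderOf_dvd_of_pow_eq_one h24
      have hG' : (⟨g.1, hmem g⟩ : Subgroup.centralizer ({t} : Set G)) ^ orderOf g.1 = 1 :=
        Subtype.ext (by rw [Subgroup.coe_pow, pow_orderOf_eq_one]; rfl)
      have hq : ∀ x ∈ inv, pw x 24 = oneT → ∃ n : Fin 9, n.1 ≠ 0 ∧ pw x n.1 = oneT := by
        decide +kernel
      obtain ⟨n, hn0, hn⟩ := hq _ (q_mem e ⟨g.1, hmem g⟩) (by
        rw [← q_pow, ← q_one e]; exact congrArg _ (Subtype.ext (by simpa using h24)))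
      have : g.1 ^ n.1 = 1 := by
        rw [← q_pow, ← q_one e] at hn
        simpa using congrArg Subtype.val (q_injective e hn)
      exact lt_of_le_of_lt (Nat.le_of_dvd (Nat.pos_of_ne_zero hn0)
        (orderOf_dvd_of_pow_eq_one this)) n.2
    refine ⟨⟨k % orderOf g.1, lt_trans (Nat.mod_lt _ (orderOf_pos _)) h8⟩, ?_⟩
    rw [← q_pow, ← q_t e ht]
    refine congrArg _ (Subtype.ext ?_)
    rw [Subgroup.coe_pow, pow_mod_orderOf]
    exact hk
  · obtain ⟨w, hw⟩ := exists_q e (Finset.mem_filter.mp z.2).1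
    obtain ⟨k, hk⟩ := (Finset.mem_filter.mp z.2).2
    rw [← hw, ← q_pow, ← q_t e ht] at hk
    refine ⟨⟨(w : G), ?_⟩, Subtype.ext hw⟩
    exact Subgroup.mem_zpowers_iff.mpr ⟨(k.1 : ℤ), by
      rw [zpow_natCast]; exact congrArg Subtype.val (q_injective e hk)⟩

theorem card_even : Nat.card {g : G // 2 ∣ orderOf g} = 3159 := by
  classical
  letI := Fintype.ofFinite {i : G // orderOf i = 2}
  have h : Nat.card {g : G // 2 ∣ orderOf g} =
      Nat.card (Σ i : {i : G // orderOf i = 2}, {g : G // 2 ∣ orderOf g ∧ invOf g = i.1}) :=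
    Nat.card_congr
      { toFun := fun g => ⟨⟨invOf g.1, orderOf_invOf g.2⟩, g.1, g.2, rfl⟩
        invFun := fun p => ⟨p.2.1, p.2.2.1⟩
        left_inv := fun g => rfl
        right_inv := fun p => by
          obtain ⟨⟨i, hi⟩, g, hg, he⟩ := p
          cases he
          rfl }
  rw [h, Nat.card_sigma, Finset.sum_congr rfl fun i _ => card_fibre e hG ht i, Finset.sum_const,
    Finset.card_univ, ← Nat.card_eq_fintype_card, card_invol e hG ht, smul_eq_mul]

variable [Fact (Nat.Prime 13)]

theorem card_three : Nat.card {g : G // g ≠ 1 ∧ g ^ 27 = 1} = 728 := by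
  classical
  letI := Fintype.ofFinite G
  have h13 : Nat.card {g : G // orderOf g = 13} = 1728 := by
    rw [SmallGroups.Counting.card_orderOf_eq_prime (fun P => Setup.card_P e hG ht P),
      Setup.n13 e hG ht]
  have h2 := card_even e hG ht
  have hd : ∀ g : G, (g ≠ 1 ∧ g ^ 27 = 1) ∨ orderOf g = 13 ∨ 2 ∣ orderOf g ∨ g = 1 := by
    intro g
    by_cases h1 : g = 1
    · exact Or.inr (Or.inr (Or.inr h1))
    by_cases he : 2 ∣ orderOf g
    · exact Or.inr (Or.inr (Or.inl he))
    rcases Setup.order_cases e hG ht g with h | h | h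
    · refine Or.inl ⟨h1, ?_⟩
      have hc : Nat.Coprime (orderOf g) (2 ^ 3) :=
        (Nat.prime_two.coprime_iff_not_dvd.mpr he).symm.pow_right 3
      have h3 := hc.dvd_of_dvd_mul_left (show orderOf g ∣ 2 ^ 3 * 3 from
        orderOf_dvd_of_pow_eq_one h)
      exact orderOf_dvd_iff_pow_eq_one.mp (h3.trans (by norm_num))
    · refine Or.inr (Or.inl ((Nat.dvd_prime (by norm_num)).mp
        (orderOf_dvd_of_pow_eq_one h) |>.resolve_left fun e1 => h1 (orderOf_eq_one_iff.mp e1)))
    · exact Or.inl ⟨h1, h⟩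
  have hsplit : ∀ (p : G → Prop), Nat.card {g : G // p g} = (Finset.univ.filter p).card := fun p => by
    rw [Nat.card_eq_fintype_card, Fintype.card_subtype]
  rw [hsplit] at h13 h2 ⊢
  have huniv : (Finset.univ : Finset G) = (Finset.univ.filter fun g => g ≠ 1 ∧ g ^ 27 = 1) ∪
      ((Finset.univ.filter fun g => orderOf g = 13) ∪
        ((Finset.univ.filter fun g => 2 ∣ orderOf g) ∪ {1})) := by
    ext g
    have := hd g
    simp only [Finset.mem_univ, Finset.mem_union, Finset.mem_filter, Finset.mem_singleton, true_and, true_iff]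
    tauto
  have hdis : ∀ g : G, g ≠ 1 → g ^ 27 = 1 → orderOf g ≠ 13 ∧ ¬ 2 ∣ orderOf g := by
    intro g _ hg
    have := orderOf_dvd_of_pow_eq_one hg
    refine ⟨fun e1 => ?_, fun e1 => ?_⟩
    · rw [e1] at this; norm_num at this
    · have := e1.trans this; norm_num at this
  have hc := congrArg Finset.card huniv
  rw [Finset.card_univ, ← Nat.card_eq_fintype_card, hG, Finset.card_union_of_disjoint,
    Finset.card_union_of_disjoint, Finset.card_union_of_disjoint, Finset.card_singleton] at hc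
  · have a1 : (Finset.univ.filter fun g : G => orderOf g = 13).card = 1728 := by
      rw [← h13]; congr 1; ext; simp
    have a2 : (Finset.univ.filter fun g : G => 2 ∣ orderOf g).card = 3159 := by
      rw [← h2]; congr 1; ext; simp
    have a0 : (Finset.univ.filter fun g : G => g ≠ 1 ∧ g ^ 27 = 1).card = 728 := by
      omega
    rw [← a0]; congr 1; ext; simp
  · rw [Finset.disjoint_singleton_right]; simp
  · rw [Finset.disjoint_left]
    intro g hg
    simp only [Finset.mem_filter, Finset.mem_univ, true_and] at hg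
    simp only [Finset.mem_union, Finset.mem_filter, Finset.mem_univ, true_and, Finset.mem_singleton]
    rintro (h' | rfl)
    · rw [hg] at h'; norm_num at h'
    · simp at hg
  · rw [Finset.disjoint_left]
    intro g hg
    simp only [Finset.mem_filter, Finset.mem_univ, true_and] at hg
    simp only [Finset.mem_union, Finset.mem_filter, Finset.mem_univ, true_and, Finset.mem_singleton]
    rintro (h' | h' | h')
    · exact (hdis g hg.1 hg.2).1 h'
    · exact (hdis g hg.1 hg.2).2 h'
    · exact hg.1 h'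

end Cfsg.Agent.Lib.RecogThree.L33.Count
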