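import Cfsg.Agent.Lib.Spectrum.SLThreeThree
import Cfsg.Agent.Lib.Linear.Simple

/-!
`PSL(3,3)` is a simple group of order `5616` with an involution centraliser `GL(2,3)`.
-/

set_option autoImplicit false
set_option linter.style.haveILetI false

namespace Cfsg.Agent.Lib.RecogThree.L33.Example

open Matrix

instance instFactThree : Fact (Nat.Prime 3) := ⟨Nat.prime_three⟩

local notation "SL3" => Matrix.SpecialLinearGroup (Fin 3) (ZMod 3)

noncomputable def toPSL : SL3 ≃* Matrix.ProjectiveSpecialLinearGroup (Fin 3) (ZMod 3) := by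
  haveI : Finite SL3 :=
    Nat.finite_of_card_ne_zero (by rw [Cfsg.Agent.Lib.Spectrum.SLThreeThree.card_SL3]; norm_num)
  have hcenter : Subgroup.center SL3 = ⊥ := by
    apply Subgroup.eq_bot_of_card_eq
    rw [Cfsg.Agent.Lib.Linear.card_center_SL, Fintype.card_fin, Nat.card_zmod]
    rfl
  exact ((QuotientGroup.quotientMulEquivOfEq hcenter).trans QuotientGroup.quotientBot).symm

theorem isSimple : IsSimpleGroup SL3 :=
  haveI := Cfsg.Agent.Lib.Linear.isSimpleGroup_PSL_of_three (F := ZMod 3) (ι := Fin 3) (by simp)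
  toPSL.isSimpleGroup

/-- The involution `diag(-1, -1, 1)`. -/
def d : SL3 := ⟨!![2, 0, 0; 0, 2, 0; 0, 0, 1], by decide +kernel⟩

theorem orderOf_d : orderOf d = 2 := by
  haveI : Fact (Nat.Prime 2) := ⟨Nat.prime_two⟩
  exact orderOf_eq_prime (Subtype.ext (by decide +kernel))
    (fun h => absurd (congrArg Subtype.val h) (by decide +kernel))

/-- The block embedding of `GL(2,3)`. -/
def blockMat (A : Matrix (Fin 2) (Fin 2) (ZMod 3)) : Matrix (Fin 3) (Fin 3) (ZMod 3) :=
  !![A 0 0, A 0 1, 0; A 1 0, A 1 1, 0; 0, 0, A.det]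

theorem blockMat_mul (A B : Matrix (Fin 2) (Fin 2) (ZMod 3)) :
    blockMat (A * B) = blockMat A * blockMat B := by
  ext i j
  fin_cases i <;> fin_cases j <;>
    simp [blockMat, Matrix.mul_apply, Fin.sum_univ_three, Fin.sum_univ_two, Matrix.det_mul]

theorem det_blockMat (A : GL (Fin 2) (ZMod 3)) : (blockMat A.1).det = 1 := by
  have hu : IsUnit (A.1).det := (Matrix.isUnit_iff_isUnit_det _).mp A.isUnit
  have hsq : ∀ x : ZMod 3, x ≠ 0 → x * x = 1 := by decide +kernel
  have e : (blockMat A.1).det = A.1.det * A.1.det := by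
    rw [Matrix.det_fin_three, Matrix.det_fin_two]
    simp [blockMat, Matrix.det_fin_two]
    ring
  rw [e]
  exact hsq _ hu.ne_zero

/-- The block embedding as a homomorphism. -/
def block : GL (Fin 2) (ZMod 3) →* SL3 where
  toFun A := ⟨blockMat A.1, det_blockMat A⟩
  map_one' := Subtype.ext (by
    show blockMat 1 = 1
    decide +kernel)
  map_mul' A B := Subtype.ext (blockMat_mul A.1 B.1)

theorem block_mem (A : GL (Fin 2) (ZMod 3)) : block A ∈ Subgroup.centralizer ({d} : Set SL3) := by
  rw [Subgroup.mem_centralizer_singleton_iff]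
  refine Subtype.ext ?_
  show blockMat A.1 * d.1 = d.1 * blockMat A.1
  ext i j
  fin_cases i <;> fin_cases j <;>
    simp [blockMat, d, Matrix.mul_apply, Fin.sum_univ_three, mul_comm]

theorem block_injective : Function.Injective block := by
  intro A B h
  have h' : blockMat A.1 = blockMat B.1 := congrArg Subtype.val h
  refine Units.ext ?_
  ext i j
  fin_cases i <;> fin_cases j
  · exact congrFun (congrFun h' 0) 0
  · exact congrFun (congrFun h' 0) 1
  · exact congrFun (congrFun h' 1) 0
  · exact congrFun (congrFun h' 1) 1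

theorem exists_block {g : SL3} (hg : g ∈ Subgroup.centralizer ({d} : Set SL3)) :
    ∃ A, block A = g := by
  have h₀ : g * d = d * g := Subgroup.mem_centralizer_singleton_iff.mp hg
  have h : g.1 * d.1 = d.1 * g.1 := congrArg Subtype.val h₀
  have key : ∀ x : ZMod 3, (x * 2 = 1 * x ∨ x * 1 = 2 * x) → x = 0 := by decide +kernel
  have e02 : g.1 0 2 = 0 := key _ (Or.inr (by
    simpa [d, Matrix.mul_apply, Fin.sum_univ_three] using congrFun (congrFun h 0) 2))
  have e12 : g.1 1 2 = 0 := key _ (Or.inr (by
    simpa [d, Matrix.mul_apply, Fin.sum_univ_three] using congrFun (congrFun h 1) 2))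
  have e20 : g.1 2 0 = 0 := key _ (Or.inl (by
    simpa [d, Matrix.mul_apply, Fin.sum_univ_three] using congrFun (congrFun h 2) 0))
  have e21 : g.1 2 1 = 0 := key _ (Or.inl (by
    simpa [d, Matrix.mul_apply, Fin.sum_univ_three] using congrFun (congrFun h 2) 1))
  set M : Matrix (Fin 2) (Fin 2) (ZMod 3) := !![g.1 0 0, g.1 0 1; g.1 1 0, g.1 1 1] with hM
  have hdet : M.det * g.1 2 2 = 1 := by
    have := g.2
    rw [Matrix.det_fin_three, e02, e12, e20, e21] at this
    rw [Matrix.det_fin_two]
    simp only [hM, Matrix.of_apply, Matrix.cons_val_zero, Matrix.cons_val_one,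
      Matrix.cons_val', Matrix.cons_val_fin_one, Matrix.empty_val']
    linear_combination this
  have hne : M.det ≠ 0 := fun h0 => by rw [h0, zero_mul] at hdet; exact zero_ne_one hdet
  have hinv : ∀ x y : ZMod 3, x * y = 1 → y = x := by decide +kernel
  refine ⟨Matrix.GeneralLinearGroup.mkOfDetNeZero M hne, Subtype.ext ?_⟩
  show blockMat M = g.1
  ext i j
  fin_cases i <;> fin_cases j
  · rfl
  · rfl
  · exact e02.symm
  · rfl
  · rfl
  · exact e12.symm
  · exact e20.symm
  · exact e21.symm
  · exact (hinv _ _ hdet).symm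

/-- The centraliser of `d` is `GL(2,3)`. -/
noncomputable def centEquiv :
    Subgroup.centralizer ({d} : Set SL3) ≃* Matrix.GeneralLinearGroup (Fin 2) (ZMod 3) :=
  (MulEquiv.ofBijective (block.codRestrict _ block_mem)
    ⟨fun _ _ h => block_injective (congrArg Subtype.val h),
      fun g => (exists_block g.2).imp fun _ h => Subtype.ext h⟩).symm

end Cfsg.Agent.Lib.RecogThree.L33.Example
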