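import Cfsg.Agent.Lib.RecogThree.L33.Three
import Cfsg.Agent.Lib.SmallGroups.Counting

/-!
Two non-abelian subgroups of order `27` meeting in a subgroup of order `9` which contains both
centres: the non-trivial elements of the intersection form one orbit of its normaliser.
-/

set_option autoImplicit false
set_option linter.style.haveILetI false
set_option linter.unusedSectionVars false

namespace Cfsg.Agent.Lib.RecogThree.L33.PairNine

open Three

universe u

variable {G : Type u} [Group G] [Finite G]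

theorem exists_conj_center {P : Subgroup G} (hP : Nat.card P = 27) (hZ : Nat.card (zc P) = 3)
    {a : G} (ha : a ∈ P) (ha' : a ∉ zc P) {w : G} (hw : w ∈ zc P) :
    ∃ n ∈ P, n * a * n⁻¹ = w * a := by
  obtain ⟨p, hp, hpa⟩ : ∃ p ∈ P, p * a ≠ a * p := by
    by_contra hc
    push Not at hc
    exact ha' (mem_zc.mpr ⟨ha, fun y hy => (hc y hy).symm⟩)
  set c := p * a * p⁻¹ * a⁻¹
  have hc : c ∈ zc P := commutator_mem hP hZ hp ha
  have hc1 : c ≠ 1 := fun h => hpa (by
    calc p * a = c * a * p := by simp only [c]; group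
      _ = a * p := by rw [h, one_mul])
  rcases mem_three hZ hc hc1 hw with rfl | rfl | rfl
  · exact ⟨1, one_mem _, by group⟩
  · exact ⟨p, hp, by simp only [c]; group⟩
  · refine ⟨p * p, mul_mem hp hp, ?_⟩
    have hcp : c * p = p * c := (mem_zc.mp hc).2 p hp
    calc p * p * a * (p * p)⁻¹ = p * (c * a) * p⁻¹ := by simp only [c]; group
      _ = (p * c) * a * p⁻¹ := by group
      _ = (c * p) * a * p⁻¹ := by rw [hcp]
      _ = c * c * a := by simp only [c]; group

/-- Two subgroups of order `27` meeting in a subgroup of order `9`, with distinct centres. -/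
structure Pair (G : Type u) [Group G] where
  P : Subgroup G
  R : Subgroup G
  a : G
  b : G
  hP : Nat.card P = 27
  hR : Nat.card R = 27
  hZP : Nat.card (zc P) = 3
  hZR : Nat.card (zc R) = 3
  haP : a ∈ zc P
  ha : a ≠ 1
  hbR : b ∈ zc R
  hb : b ≠ 1
  haR : a ∈ R
  hbP : b ∈ P
  hbA : b ∉ zc P
  haB : a ∉ zc R
  hD : Nat.card ↥(P ⊓ R) = 9

variable (S : Pair G)

theorem a_cube : S.a ^ 3 = 1 := by
  have h := pow_card_eq_one' (G := zc S.P) (x := ⟨S.a, S.haP⟩)
  rw [S.hZP] at h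
  simpa using congrArg Subtype.val h

theorem orderOf_a : orderOf S.a = 3 := by
  haveI : Fact (Nat.Prime 3) := ⟨Nat.prime_three⟩
  exact orderOf_eq_prime (a_cube S) S.ha

/-- The elementary abelian subgroup of order nine. -/
abbrev E (S : Pair G) : Subgroup G := S.P ⊓ S.R

theorem a_mem : S.a ∈ E S := ⟨zc_le _ S.haP, S.haR⟩

theorem b_mem : S.b ∈ E S := ⟨S.hbP, zc_le _ S.hbR⟩

theorem comm_ab : S.a * S.b = S.b * S.a := (mem_zc.mp S.haP).2 _ S.hbP

theorem b_cube : S.b ^ 3 = 1 := by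
  have h := pow_card_eq_one' (G := zc S.R) (x := ⟨S.b, S.hbR⟩)
  rw [S.hZR] at h
  simpa using congrArg Subtype.val h

theorem exists_form {x : G} (hx : x ∈ E S) : ∃ i j : Fin 3, x = S.a ^ i.1 * S.b ^ j.1 := by
  let f : Fin 3 × Fin 3 → E S := fun p =>
    ⟨S.a ^ p.1.1 * S.b ^ p.2.1, mul_mem (pow_mem (a_mem S) _) (pow_mem (b_mem S) _)⟩
  haveI : Fact (Nat.Prime 3) := ⟨Nat.prime_three⟩
  have ho : orderOf S.b = 3 := orderOf_eq_prime (b_cube S) S.hb
  have hinj : Function.Injective f := by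
    rintro ⟨i, j⟩ ⟨k, l⟩ hp
    have hp' : S.a ^ i.1 * S.b ^ j.1 = S.a ^ k.1 * S.b ^ l.1 := congrArg Subtype.val hp
    have hbz : S.b ^ ((j.1 : ℤ) - l.1) ∈ zc S.P := by
      have e1 : S.b ^ ((j.1 : ℤ) - l.1) = (S.a ^ i.1)⁻¹ * S.a ^ k.1 := by
        rw [zpow_sub, zpow_natCast, zpow_natCast, eq_inv_mul_iff_mul_eq, ← mul_assoc, hp']
        group
      rw [e1]
      exact mul_mem (inv_mem (pow_mem S.haP _)) (pow_mem S.haP _)
    have hjl : j = l := by
      by_contra hjl
      apply S.hbA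
      have hne : j.1 ≠ l.1 := fun h => hjl (Fin.ext h)
      have := j.2
      have := l.2
      have hb3 : S.b ^ (3 : ℤ) = 1 := by exact_mod_cast b_cube S
      rcases (show (j.1 : ℤ) - l.1 = 1 ∨ (j.1 : ℤ) - l.1 = -1 ∨ (j.1 : ℤ) - l.1 = 2 ∨
          (j.1 : ℤ) - l.1 = -2 by omega) with h | h | h | h <;> rw [h] at hbz
      · simpa using hbz
      · simpa using hbz
      · have := inv_mem hbz
        rwa [← zpow_neg, show S.b ^ (-(2 : ℤ)) = S.b by
          rw [show (-(2 : ℤ)) = 1 - 3 by norm_num, zpow_sub, hb3, zpow_one]; group] at this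
      · rwa [show (-2 : ℤ) = 1 - 3 by norm_num, zpow_sub, hb3, zpow_one, inv_one, mul_one] at hbz
    subst hjl
    have := pow_injOn_Iio_orderOf (x := S.a) (by rw [Set.mem_Iio, orderOf_a S]; exact i.2)
      (by rw [Set.mem_Iio, orderOf_a S]; exact k.2) (mul_right_cancel hp')
    exact Prod.ext (Fin.ext this) rfl
  have hbij := (Nat.bijective_iff_injective_and_card f).mpr ⟨hinj, by rw [Nat.card_prod, Nat.card_fin]; exact S.hD.symm⟩
  obtain ⟨⟨i, j⟩, hij⟩ := hbij.2 ⟨x, hx⟩
  exact ⟨i, j, (congrArg Subtype.val hij).symm⟩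

theorem mem_normalizer {n : G} (ha : n * S.a * n⁻¹ ∈ E S) (hb : n * S.b * n⁻¹ ∈ E S) :
    n ∈ Subgroup.normalizer ((E S : Subgroup G) : Set G) := by
  have hle : (E S).map (MulAut.conj n).toMonoidHom ≤ E S := by
    rintro _ ⟨x, hx, rfl⟩
    obtain ⟨i, j, rfl⟩ := exists_form S hx
    simp only [MulEquiv.coe_toMonoidHom, map_mul, map_pow, MulAut.conj_apply]
    exact mul_mem (pow_mem ha _) (pow_mem hb _)
  have heq := Subgroup.eq_of_le_of_card_ge hle (by
    rw [Nat.card_congr ((E S).equivMapOfInjective _ (MulAut.conj n).injective).symm.toEquiv])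
  rw [Subgroup.mem_normalizer_iff]
  intro x
  conv_rhs => rw [← heq]
  rw [Subgroup.mem_map_equiv, MulAut.conj_symm_apply]
  rw [show n⁻¹ * (n * x * n⁻¹) * n = x by group]

theorem P_le : S.P ≤ Subgroup.normalizer ((E S : Subgroup G) : Set G) := by
  intro p hp
  refine mem_normalizer S ?_ ?_
  · rw [← (mem_zc.mp S.haP).2 p hp, mul_inv_cancel_right]
    exact a_mem S
  · have h := commutator_mem S.hP S.hZP hp S.hbP
    have hA : zc S.P ≤ E S := fun z hz => by
      rcases mem_three S.hZP S.haP (S.ha) hz with rfl | rfl | rfl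
      · exact one_mem _
      · exact a_mem S
      · exact mul_mem (a_mem S) (a_mem S)
    have := mul_mem (hA h) (b_mem S)
    rwa [inv_mul_cancel_right] at this

theorem R_le : S.R ≤ Subgroup.normalizer ((E S : Subgroup G) : Set G) := by
  intro p hp
  refine mem_normalizer S ?_ ?_
  · have h := commutator_mem S.hR S.hZR hp S.haR
    have hA : zc S.R ≤ E S := fun z hz => by
      rcases mem_three S.hZR S.hbR S.hb hz with rfl | rfl | rfl
      · exact one_mem _
      · exact b_mem S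
      · exact mul_mem (b_mem S) (b_mem S)
    have := mul_mem (hA h) (a_mem S)
    rwa [inv_mul_cancel_right] at this
  · rw [← (mem_zc.mp S.hbR).2 p hp, mul_inv_cancel_right]
    exact b_mem S

theorem orbit {x : G} (hx : x ∈ E S) (hx1 : x ≠ 1) :
    ∃ n ∈ Subgroup.normalizer ((E S : Subgroup G) : Set G), n * S.a * n⁻¹ = x := by
  set N := Subgroup.normalizer ((E S : Subgroup G) : Set G)
  let O : G → Prop := fun y => ∃ n ∈ N, n * S.a * n⁻¹ = y
  have step : ∀ {y z : G}, (∃ n ∈ N, n * y * n⁻¹ = z) → O y → O z := by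
    rintro y z ⟨n, hn, rfl⟩ ⟨m, hm, rfl⟩
    exact ⟨n * m, mul_mem hn hm, by group⟩
  have back : ∀ {y z : G}, (∃ n ∈ N, n * y * n⁻¹ = z) → O z → O y := fun {y z} h =>
    step (by obtain ⟨n, hn, rfl⟩ := h; exact ⟨n⁻¹, inv_mem hn, by group⟩)
  have hPshift : ∀ (y : G), y ∈ S.P → y ∉ zc S.P → ∀ i : ℕ,
      ∃ n ∈ N, n * y * n⁻¹ = S.a ^ i * y := by
    intro y hy hy' i
    obtain ⟨n, hn, hne⟩ := exists_conj_center S.hP S.hZP hy hy' (pow_mem S.haP i)
    exact ⟨n, P_le S hn, hne⟩
  have hRshift : ∀ (y : G), y ∈ S.R → y ∉ zc S.R → ∀ j : ℕ,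
      ∃ n ∈ N, n * y * n⁻¹ = S.b ^ j * y := by
    intro y hy hy' j
    obtain ⟨n, hn, hne⟩ := exists_conj_center S.hR S.hZR hy hy' (pow_mem S.hbR j)
    exact ⟨n, R_le S hn, hne⟩
  have hb2 : S.b ^ 2 ∉ zc S.P := by
    intro h
    apply S.hbA
    have h4 := mul_mem h h
    rwa [← pow_add, show 2 + 2 = 3 + 1 from rfl, pow_succ, b_cube, one_mul] at h4
  have ha2 : S.a ^ 2 ∉ zc S.R := by
    intro h
    apply S.haB
    have h4 := mul_mem h h
    rwa [← pow_add, show 2 + 2 = 3 + 1 from rfl, pow_succ, a_cube, one_mul] at h4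
  have hc : Commute S.a S.b := comm_ab S
  have oa : O S.a := ⟨1, one_mem _, by group⟩
  -- the two cosets of `⟨a⟩` outside it
  have hcoset : ∀ j : ℕ, j = 1 ∨ j = 2 → ∀ i : ℕ, O (S.a ^ i * S.b ^ j) := by
    intro j hj i
    have hbj : S.b ^ j ∉ zc S.P := by
      rcases hj with rfl | rfl
      · rw [pow_one]; exact S.hbA
      · exact hb2
    have hbjP : S.b ^ j ∈ S.P := pow_mem S.hbP _
    have h1 : O (S.b ^ j * S.a) := step (hRshift S.a S.haR S.haB j) oa
    rw [← (hc.pow_right j).eq] at h1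
    have h2 : O (S.b ^ j) := by
      refine back (hPshift _ hbjP hbj 1) ?_
      rwa [pow_one]
    exact step (hPshift _ hbjP hbj i) h2
  obtain ⟨i, j, rfl⟩ := exists_form S hx
  have hj := j.2
  have hi := i.2
  interval_cases hjv : j.1
  · rw [pow_zero, mul_one] at hx1 ⊢
    interval_cases hiv : i.1
    · simp at hx1
    · rw [pow_one]; exact oa
    · refine back (hRshift _ (pow_mem S.haR 2) ha2 1) ?_
      rw [← (hc.pow_pow 2 1).eq]
      exact hcoset 1 (Or.inl rfl) 2
  · exact hcoset 1 (Or.inl rfl) _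
  · exact hcoset 2 (Or.inr rfl) _

theorem card_normalizer (h54 : Nat.card (Subgroup.centralizer ({S.a} : Set G)) = 54)
    (hle : Subgroup.centralizer ({S.a} : Set G) ≤ Subgroup.normalizer ((E S : Subgroup G) : Set G)) :
    Nat.card (Subgroup.normalizer ((E S : Subgroup G) : Set G)) = 432 := by
  classical
  set N := Subgroup.normalizer ((E S : Subgroup G) : Set G)
  have haN : S.a ∈ N := P_le S (zc_le _ S.haP)
  have h := SmallGroups.Counting.card_isConj_mul (⟨S.a, haN⟩ : N)
  have h1 : Nat.card {y : N // IsConj (⟨S.a, haN⟩ : N) y} = 8 := by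
    have hval : ∀ y : N, IsConj (⟨S.a, haN⟩ : N) y → (y : G) ∈ E S ∧ (y : G) ≠ 1 := by
      intro y hy
      obtain ⟨n, rfl⟩ := isConj_iff.mp hy
      refine ⟨(Subgroup.mem_normalizer_iff.mp n.2 _).mp (a_mem S), fun h => S.ha ?_⟩
      simpa using h
    rw [show (8 : ℕ) = Nat.card {x : E S // x ≠ 1} by
      letI := Fintype.ofFinite (E S)
      rw [Nat.card_eq_fintype_card, Fintype.card_subtype_compl, Fintype.card_subtype_eq,
        ← Nat.card_eq_fintype_card, S.hD]]
    refine Nat.card_eq_of_bijective (fun y => ⟨⟨y.1.1, (hval _ y.2).1⟩,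
      fun h => (hval _ y.2).2 (congrArg Subtype.val h)⟩) ⟨fun y z h => ?_, fun x => ?_⟩
    · exact Subtype.ext (Subtype.ext (congrArg (fun w : {x : E S // x ≠ 1} => (w.1 : G)) h))
    · obtain ⟨n, hn, hne⟩ := orbit S x.1.2 (fun h => x.2 (Subtype.ext h))
      exact ⟨⟨_, isConj_iff.mpr ⟨⟨n, hn⟩, rfl⟩⟩, Subtype.ext (Subtype.ext hne)⟩
  have h2 : Nat.card (Subgroup.centralizer ({(⟨S.a, haN⟩ : N)} : Set N)) = 54 := by
    rw [← h54]
    refine Nat.card_congr
      { toFun := fun z => ⟨z.1.1, Subgroup.mem_centralizer_singleton_iff.mpr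
          (congrArg Subtype.val (Subgroup.mem_centralizer_singleton_iff.mp z.2))⟩
        invFun := fun z => ⟨⟨z.1, hle z.2⟩, Subgroup.mem_centralizer_singleton_iff.mpr
          (Subtype.ext (Subgroup.mem_centralizer_singleton_iff.mp z.2))⟩
        left_inv := fun z => rfl
        right_inv := fun z => rfl }
  rw [h1, h2] at h
  exact h.symm

end Cfsg.Agent.Lib.RecogThree.L33.PairNine
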