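import Cfsg.Agent.Lib.RecogThree.L33.Local
import Cfsg.Agent.Lib.RecogThree.L33.PairNine

/-!
An elementary abelian subgroup of order nine whose normaliser has index `13`.
-/

set_option autoImplicit false
set_option linter.style.haveILetI false
set_option linter.unusedSectionVars false

namespace Cfsg.Agent.Lib.RecogThree.L33.Index

open Three Local

universe u

variable {G : Type u} [Group G] [Finite G] [IsSimpleGroup G]

/-- A pair of commuting `a`-elements spanning the intersection of two Sylow subgroups. -/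
structure Pair (B : Base G) where
  P : Subgroup G
  R : Subgroup G
  b : G
  hP : Nat.card P = 27
  hR : Nat.card R = 27
  hPC : P ≤ Subgroup.centralizer ({B.a} : Set G)
  haP : B.a ∈ P
  hbR : b ∈ zc R
  hb : b ≠ 1
  haR : B.a ∈ R
  hbP : b ∈ P
  hbA : b ∉ zc P
  haB : B.a ∉ zc R
  hD : Nat.card ↥(P ⊓ R) = 9

theorem a_mem_zc (B : Base G) {P : Subgroup G} (hPC : P ≤ Subgroup.centralizer ({B.a} : Set G))
    (haP : B.a ∈ P) : B.a ∈ zc P :=
  mem_zc.mpr ⟨haP, fun _ hy => (Subgroup.mem_centralizer_singleton_iff.mp (hPC hy)).symm⟩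

variable [Fact (Nat.Prime 13)]

theorem exists_pair (B : Base G) : Nonempty (Pair B) := by
  haveI : Fact (Nat.Prime 3) := ⟨Nat.prime_three⟩
  obtain ⟨P, hP, hPC, haP⟩ := exists_sylow_cent B
  have hZ := card_zc hP (not_comm B hP)
  have haZ := a_mem_zc B hPC haP
  have hf : (Nat.card G).factorization 3 = 3 := by
    rw [card' B, show (27 : ℕ) = 3 ^ 3 by norm_num,
      Nat.factorization_mul (by norm_num) (by norm_num),
      Nat.Prime.factorization_pow Nat.prime_three]
    simp [Nat.factorization_eq_zero_of_not_dvd]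
  set P' : Sylow 3 G := Sylow.ofCard P (by rw [hP, hf]; norm_num) with hP'def
  have hP' : (P' : Subgroup G) = P := rfl
  have hn : ¬ Nat.card (Sylow 3 G) ≡ 1 [MOD 3 ^ 2] := by
    intro hmod
    have hd := SmallGroups.Sylow.card_sylow_dvd (p := 3) (G := G) (a := 3) (m := 208)
      (by rw [B.card]; norm_num) (by norm_num)
    have key : ∀ n ∈ Nat.divisors 208, n % 9 = 1 → n = 1 ∨ n = 208 := by decide +kernel
    rcases key _ (Nat.mem_divisors.mpr ⟨hd, by norm_num⟩) hmod with h1 | h1
    · refine SmallGroups.Sylow.card_sylow_ne_one (p := 3) (G := G) (a := 3) (m := 208)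
        ?_ ?_ ?_ ?_ h1 <;>
        first
          | (rw [B.card]; norm_num)
          | exact SmallGroups.Sylow.not_comm_of_card (by rw [B.card]; norm_num)
          | norm_num
    · have hN := SmallGroups.Sylow.card_normalizer_mul P'
      rw [h1, B.card] at hN
      have htN : B.t ∈ Subgroup.normalizer ((P' : Subgroup G) : Set G) := by
        rw [hP']
        refine (Subgroup.normalizer (P : Set G)).inv_mem_iff.mp ?_
        rw [t_inv, Subgroup.mem_normalizer_iff]
        intro x
        have aux : ∀ y ∈ P, B.t * y * B.t⁻¹ ∈ P := fun y hy =>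
          mem_of_index_two hPC (by rw [card_cent_a B, hP])
            (mul_mem (mul_mem (t_mem_cent B) (hPC hy)) (inv_mem (t_mem_cent B)))
            (by rw [conj_pow, pow_27 hP hy]; group)
        refine ⟨aux x, fun hx => ?_⟩
        have := aux _ hx
        rw [t_inv] at this
        rwa [show B.t * (B.t * x * B.t) * B.t = x by
          calc B.t * (B.t * x * B.t) * B.t = (B.t * B.t) * x * (B.t * B.t) := by group
            _ = x := by rw [t_sq]; group] at this
      have h2 : 2 ∣ Nat.card (Subgroup.normalizer ((P' : Subgroup G) : Set G)) := by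
        rw [← B.ht, ← Subgroup.orderOf_mk B.t htN]
        exact orderOf_dvd_natCard _
      omega
  obtain ⟨P1, R1, hne, j, hj0, hj2, hj⟩ := SmallGroups.Counting.exists_card_inf_mul 2 hn
  obtain rfl : j = 1 := by omega
  have h27 : ∀ Q : Sylow 3 G, Nat.card (Q : Subgroup G) = 27 := fun Q => by
    rw [Sylow.card_eq_multiplicity, hf]; norm_num
  rw [h27] at hj
  obtain ⟨g, hg⟩ := conj_27 (card' B) (h27 P1) hP
  set R := (R1 : Subgroup G).map (MulAut.conj g).toMonoidHom with hRdef
  have hmap : P = (P1 : Subgroup G).map (MulAut.conj g).toMonoidHom := by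
    ext x
    rw [hg, Subgroup.mem_map_equiv, MulAut.conj_symm_apply]
  have hR : Nat.card R = 27 := by
    rw [hRdef, Nat.card_congr ((R1 : Subgroup G).equivMapOfInjective _
      (MulAut.conj g).injective).symm.toEquiv, h27]
  have hD : Nat.card ↥(P ⊓ R) = 9 := by
    rw [hmap, hRdef, ← Subgroup.map_inf _ _ _ (MulAut.conj g).injective,
      Nat.card_congr (((P1 : Subgroup G) ⊓ (R1 : Subgroup G)).equivMapOfInjective _
        (MulAut.conj g).injective).symm.toEquiv]
    omega
  have hPR : P ≠ R := by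
    intro h
    rw [← h, inf_idem, hP] at hD
    omega
  obtain ⟨h, hh⟩ := conj_27 (card' B) hP hR
  set b := h * B.a * h⁻¹ with hbdef
  have hb : b ≠ 1 := by
    intro e1
    apply a_ne_one B
    calc B.a = h⁻¹ * b * h := by rw [hbdef]; group
      _ = 1 := by rw [e1]; group
  have hbR : b ∈ zc R := by
    refine mem_zc.mpr ⟨(hh _).mpr (by rwa [show h⁻¹ * b * h = B.a by rw [hbdef]; group]),
      fun y hy => ?_⟩
    have := (mem_zc.mp haZ).2 _ ((hh y).mp hy)
    calc b * y = h * (B.a * (h⁻¹ * y * h)) * h⁻¹ := by rw [hbdef]; group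
      _ = h * (h⁻¹ * y * h * B.a) * h⁻¹ := by rw [this]
      _ = y * b := by rw [hbdef]; group
  have hZR : Nat.card (zc R) = 3 := card_zc hR (not_comm B hR)
  have hbD := zc_le_nine hR hZR inf_le_right hD hbR
  have haD := zc_le_nine hP hZ inf_le_left hD haZ
  have hbA : b ∉ zc P := by
    intro hbP
    apply hPR
    refine (Subgroup.eq_of_le_of_card_ge (fun y hy => ?_) (by rw [hP, hR])).symm
    refine mem_of_index_two hPC (by rw [card_cent_a B, hP]) ?_ (pow_27 hR hy)
    have hby := (mem_zc.mp hbR).2 y hy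
    rw [Subgroup.mem_centralizer_singleton_iff]
    rcases mem_three hZ hbP hb haZ with e1 | e1 | e1
    · exact absurd e1 (a_ne_one B)
    · rw [e1]; exact hby.symm
    · rw [e1]
      exact ((show Commute b y from hby).symm.mul_right (show Commute b y from hby).symm).eq
  refine ⟨⟨P, R, b, hP, hR, hPC, haP, hbR, hb, haD.2, hbD.1, hbA, fun hab => hbA ?_, hD⟩⟩
  rcases mem_three hZR hab (a_ne_one B) hbR with e1 | e1 | e1
  · exact absurd e1 hb
  · rw [e1]; exact haZ
  · rw [e1]; exact mul_mem haZ haZ

variable {B : Base G} (S : Pair B)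

theorem card_zcP : Nat.card (zc S.P) = 3 := card_zc S.hP (not_comm B S.hP)

theorem card_zcR : Nat.card (zc S.R) = 3 := card_zc S.hR (not_comm B S.hR)

theorem haZ : B.a ∈ zc S.P := a_mem_zc B S.hPC S.haP

/-- The pair of subgroups, forgetting the involution. -/
def toNine : PairNine.Pair G :=
  { P := S.P, R := S.R, a := B.a, b := S.b, hP := S.hP, hR := S.hR, hZP := card_zcP S,
    hZR := card_zcR S, haP := haZ S, ha := a_ne_one B, hbR := S.hbR, hb := S.hb, haR := S.haR,
    hbP := S.hbP, hbA := S.hbA, haB := S.haB, hD := S.hD }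

/-- The elementary abelian subgroup of order nine. -/
abbrev E : Subgroup G := PairNine.E (toNine S)

theorem a_mem : B.a ∈ E S := PairNine.a_mem (toNine S)

theorem b_mem : S.b ∈ E S := PairNine.b_mem (toNine S)

theorem mem_normalizer {n : G} (ha : n * B.a * n⁻¹ ∈ E S) (hb : n * S.b * n⁻¹ ∈ E S) :
    n ∈ Subgroup.normalizer ((E S : Subgroup G) : Set G) :=
  PairNine.mem_normalizer (toNine S) ha hb

theorem P_le : S.P ≤ Subgroup.normalizer ((E S : Subgroup G) : Set G) := PairNine.P_le (toNine S)

theorem t_mem : B.t ∈ Subgroup.normalizer ((E S : Subgroup G) : Set G) := by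
  have hidx : Nat.card (Subgroup.centralizer ({B.a} : Set G)) = 2 * Nat.card S.P := by
    rw [card_cent_a B, S.hP]
  have hta : B.t * B.a * B.t⁻¹ = B.a := by rw [← B.hat.eq]; group
  refine mem_normalizer S (by rw [hta]; exact a_mem S) ?_
  set b' := B.t * S.b * B.t⁻¹ with hb'def
  have hb'27 : b' ^ 27 = 1 := by rw [hb'def, conj_pow, pow_27 S.hP S.hbP]; group
  have hb' : b' ∈ S.P := mem_of_index_two S.hPC hidx
    (mul_mem (mul_mem (t_mem_cent B) (S.hPC S.hbP)) (inv_mem (t_mem_cent B))) hb'27
  have htb' : B.t * b' * B.t⁻¹ = S.b := by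
    rw [hb'def, t_inv]
    calc B.t * (B.t * S.b * B.t) * B.t = (B.t * B.t) * S.b * (B.t * B.t) := by group
      _ = S.b := by rw [t_sq]; group
  set y := S.b * b'
  have hy : y ∈ S.P := mul_mem S.hbP hb'
  set c := b' * S.b * b'⁻¹ * S.b⁻¹
  have hc : c ∈ zc S.P := commutator_mem S.hP (card_zcP S) hb' S.hbP
  have hct : B.t * c * B.t⁻¹ = c := by
    rcases mem_three (card_zcP S) (haZ S) (a_ne_one B) hc with h | h | h <;> rw [h]
    · group
    · exact hta
    · calc B.t * (B.a * B.a) * B.t⁻¹ = (B.t * B.a * B.t⁻¹) * (B.t * B.a * B.t⁻¹) := by group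
        _ = B.a * B.a := by rw [hta]
  have hty : B.t * y * B.t⁻¹ = c * y := by
    calc B.t * y * B.t⁻¹ = (B.t * S.b * B.t⁻¹) * (B.t * b' * B.t⁻¹) := by simp only [y]; group
      _ = b' * S.b := by rw [← hb'def, htb']
      _ = c * y := by simp only [c, y]; group
  have hcc : c * c = 1 := by
    have h2 : B.t * (B.t * y * B.t⁻¹) * B.t⁻¹ = y := by
      rw [t_inv]
      calc B.t * (B.t * y * B.t) * B.t = (B.t * B.t) * y * (B.t * B.t) := by group
        _ = y := by rw [t_sq]; group
    rw [hty, show B.t * (c * y) * B.t⁻¹ = (B.t * c * B.t⁻¹) * (B.t * y * B.t⁻¹) by group,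
      hct, hty, ← mul_assoc] at h2
    exact mul_eq_right.mp h2
  have hc1 : c = 1 := by
    have h3 := pow_card_eq_one' (G := zc S.P) (x := ⟨c, hc⟩)
    rw [card_zcP S] at h3
    have h3' : c ^ 3 = 1 := by simpa using congrArg Subtype.val h3
    rwa [pow_succ, pow_two, hcc, one_mul] at h3'
  rw [hc1, one_mul] at hty
  have hyt : Commute y B.t := by
    rw [commute_iff_eq]
    calc y * B.t = B.t * y * B.t⁻¹ * B.t := by rw [hty]
      _ = B.t * y := by group
  have hya : Commute y B.a := Subgroup.mem_centralizer_singleton_iff.mp (S.hPC hy)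
  have hyE : y ∈ E S := by
    rcases mem_a_powers B hyt hya (pow_27 S.hP hy) with h | h | h <;> rw [h]
    · exact one_mem _
    · exact a_mem S
    · exact mul_mem (a_mem S) (a_mem S)
  rw [show b' = S.b⁻¹ * y by simp only [y]; group]
  exact mul_mem (inv_mem (b_mem S)) hyE

theorem cent_le : Subgroup.centralizer ({B.a} : Set G) ≤
    Subgroup.normalizer ((E S : Subgroup G) : Set G) := by
  intro x hx
  by_cases hxP : x ∈ S.P
  · exact P_le S hxP
  have hi : (S.P.subgroupOf (Subgroup.centralizer ({B.a} : Set G))).index = 2 := by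
    have h := Subgroup.card_mul_index (S.P.subgroupOf (Subgroup.centralizer ({B.a} : Set G)))
    rw [Nat.card_congr (Subgroup.subgroupOfEquivOfLe S.hPC).toEquiv, card_cent_a B, S.hP] at h
    omega
  have htP : B.t ∉ S.P := by
    intro h
    have h1 : B.t ^ 27 = 1 := pow_27 S.hP h
    have := orderOf_dvd_of_pow_eq_one h1
    rw [B.ht] at this
    norm_num at this
  have hxt : x * B.t ∈ S.P := by
    have hiff := Subgroup.mul_mem_iff_of_index_two hi (a := ⟨x, hx⟩) (b := ⟨B.t, t_mem_cent B⟩)
    simp only [Subgroup.mem_subgroupOf, Subgroup.coe_mul] at hiff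
    exact hiff.mpr ⟨fun h => absurd h hxP, fun h => absurd h htP⟩
  have := mul_mem (P_le S hxt) (t_mem S)
  rwa [mul_assoc, t_sq, mul_one] at this

theorem card_normalizer : Nat.card (Subgroup.normalizer ((E S : Subgroup G) : Set G)) = 432 :=
  PairNine.card_normalizer (toNine S) (card_cent_a B) (cent_le S)

theorem exists_index_thirteen (B : Base G) : ∃ H : Subgroup G, H.index = 13 := by
  obtain ⟨S⟩ := exists_pair B
  refine ⟨Subgroup.normalizer ((E S : Subgroup G) : Set G), ?_⟩
  have h := Subgroup.card_mul_index (Subgroup.normalizer ((E S : Subgroup G) : Set G))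
  rw [card_normalizer S, B.card] at h
  omega

end Cfsg.Agent.Lib.RecogThree.L33.Index
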