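import Mathlib.GroupTheory.Sylow
import Mathlib.GroupTheory.SpecificGroups.Cyclic

/-!
Elementary facts about subgroups of order `27`, stated inside an ambient finite group.
-/

set_option autoImplicit false
set_option linter.style.haveILetI false
set_option linter.unusedSectionVars false

namespace Cfsg.Agent.Lib.RecogThree.L33.Three

universe u

variable {G : Type u} [Group G] [Finite G]

/-- The centre of a subgroup, as a subgroup of the ambient group. -/
def zc (P : Subgroup G) : Subgroup G := P ⊓ Subgroup.centralizer (P : Set G)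

theorem mem_zc {P : Subgroup G} {x : G} : x ∈ zc P ↔ x ∈ P ∧ ∀ y ∈ P, x * y = y * x := by
  rw [zc, Subgroup.mem_inf, Subgroup.mem_centralizer_iff]
  exact ⟨fun h => ⟨h.1, fun y hy => (h.2 y hy).symm⟩, fun h => ⟨h.1, fun y hy => (h.2 y hy).symm⟩⟩

theorem zc_le (P : Subgroup G) : zc P ≤ P := inf_le_left

theorem pow_27 {P : Subgroup G} (hP : Nat.card P = 27) {x : G} (hx : x ∈ P) : x ^ 27 = 1 := by
  have h := pow_card_eq_one' (G := P) (x := ⟨x, hx⟩)
  rw [hP] at h
  simpa using congrArg Subtype.val h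

theorem dvd_cases {n : ℕ} (h : n ∣ 27) : n = 1 ∨ n = 3 ∨ n = 9 ∨ n = 27 := by
  have h' : n ∈ Nat.divisors 27 := Nat.mem_divisors.mpr ⟨h, by norm_num⟩
  rw [show Nat.divisors 27 = {1, 3, 9, 27} by decide] at h'
  simpa using h'

theorem eq_of_card {H P : Subgroup G} (h : H ≤ P) (hP : Nat.card P = 27) (hH : 9 < Nat.card H) :
    H = P := by
  have := Subgroup.card_dvd_of_le h
  rw [hP] at this
  refine Subgroup.eq_of_le_of_card_ge h ?_
  rcases dvd_cases this with e | e | e | e <;> omega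

theorem card_lt_of_mem {H K : Subgroup G} (h : H ≤ K) {x : G} (hK : x ∈ K) (hH : x ∉ H) :
    Nat.card H < Nat.card K := by
  refine lt_of_le_of_ne (Subgroup.card_le_of_le h) fun e => hH ?_
  rwa [Subgroup.eq_of_le_of_card_ge h e.ge]

theorem three_le_zc {P : Subgroup G} (hP : Nat.card P = 27) : 3 ≤ Nat.card (zc P) := by
  haveI : Fact (Nat.Prime 3) := ⟨Nat.prime_three⟩
  have hp : IsPGroup 3 P := IsPGroup.of_card (n := 3) (by rw [hP]; norm_num)
  haveI : Nontrivial P := Finite.one_lt_card_iff_nontrivial.mp (by rw [hP]; norm_num)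
  haveI := hp.center_nontrivial
  obtain ⟨⟨z, hz⟩, hz1⟩ := exists_ne (1 : Subgroup.center P)
  have hmem : (z : G) ∈ zc P := mem_zc.mpr ⟨z.2, fun y hy =>
    (congrArg Subtype.val (Subgroup.mem_center_iff.mp hz ⟨y, hy⟩)).symm⟩
  have h1 : (z : G) ≠ 1 := fun e => hz1 (Subtype.ext (Subtype.ext e))
  have h2 : 1 < Nat.card (zc P) := (Subgroup.one_lt_card_iff_ne_bot _).mpr fun e => h1 (by
    rwa [e, Subgroup.mem_bot] at hmem)
  have h3 := Subgroup.card_dvd_of_le (zc_le P)
  rw [hP] at h3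
  rcases dvd_cases h3 with e | e | e | e <;> omega

theorem card_zc {P : Subgroup G} (hP : Nat.card P = 27)
    (hnc : ¬ ∀ x ∈ P, ∀ y ∈ P, x * y = y * x) : Nat.card (zc P) = 3 := by
  have h3 := Subgroup.card_dvd_of_le (zc_le P)
  rw [hP] at h3
  have hge := three_le_zc hP
  rcases dvd_cases h3 with e | e | e | e
  · omega
  · exact e
  · exfalso
    obtain ⟨y, hy, hy'⟩ : ∃ y ∈ P, y ∉ zc P := by
      by_contra hc
      push Not at hc
      exact hnc fun x hx y hy => (mem_zc.mp (hc x hx)).2 y hy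
    set K := P ⊓ Subgroup.centralizer ({y} : Set G)
    have hle : zc P ≤ K := fun z hz => ⟨zc_le P hz,
      Subgroup.mem_centralizer_singleton_iff.mpr ((mem_zc.mp hz).2 y hy)⟩
    have := card_lt_of_mem hle (x := y) ⟨hy, Subgroup.mem_centralizer_singleton_iff.mpr rfl⟩ hy'
    have hK : K = P := eq_of_card inf_le_left hP (by omega)
    refine hy' (mem_zc.mpr ⟨hy, fun w hw => ?_⟩)
    have hw' : w ∈ K := hK ▸ hw
    exact (Subgroup.mem_centralizer_singleton_iff.mp hw'.2).symm
  · exfalso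
    refine hnc fun x hx y hy => (mem_zc.mp ?_).2 y hy
    rwa [Subgroup.eq_of_le_of_card_ge (zc_le P) (by omega)]

theorem nine_le_cent {P : Subgroup G} (hP : Nat.card P = 27) {x : G} (hx : x ∈ P) :
    9 ∣ Nat.card (Subgroup.centralizer ({x} : Set G)) := by
  set K := P ⊓ Subgroup.centralizer ({x} : Set G)
  refine dvd_trans ?_ (Subgroup.card_dvd_of_le (inf_le_right : K ≤ _))
  have hd := Subgroup.card_dvd_of_le (inf_le_left : K ≤ P)
  rw [hP] at hd
  have hle : zc P ≤ K := fun z hz => ⟨zc_le P hz,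
    Subgroup.mem_centralizer_singleton_iff.mpr ((mem_zc.mp hz).2 x hx)⟩
  have h9 : 3 < Nat.card K := by
    by_cases hxz : x ∈ zc P
    · have : K = P := le_antisymm inf_le_left fun w hw => ⟨hw,
        Subgroup.mem_centralizer_singleton_iff.mpr ((mem_zc.mp hxz).2 w hw).symm⟩
      rw [this]; omega
    · have := card_lt_of_mem hle (x := x) ⟨hx, Subgroup.mem_centralizer_singleton_iff.mpr rfl⟩ hxz
      have := three_le_zc hP
      omega
  rcases dvd_cases hd with e | e | e | e <;> simp only [K] at h9 ⊢ <;>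
    first | omega | (rw [e]; norm_num)

theorem commutator_mem {P : Subgroup G} (hP : Nat.card P = 27) (hZ : Nat.card (zc P) = 3)
    {x y : G} (hx : x ∈ P) (hy : y ∈ P) : x * y * x⁻¹ * y⁻¹ ∈ zc P := by
  haveI : Fact (Nat.Prime 3) := ⟨Nat.prime_three⟩
  haveI : ((zc P).subgroupOf P).Normal := by
    refine ⟨fun z hz g => ?_⟩
    rw [Subgroup.mem_subgroupOf] at hz ⊢
    have := (mem_zc.mp hz).2 _ g.2
    simpa [← this] using hz
  have hq : Nat.card (P ⧸ (zc P).subgroupOf P) = 3 ^ 2 := by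
    have h := Subgroup.card_eq_card_quotient_mul_card_subgroup ((zc P).subgroupOf P)
    rw [hP, Nat.card_congr (Subgroup.subgroupOfEquivOfLe (zc_le P)).toEquiv, hZ] at h
    omega
  have := (IsPGroup.isMulCommutative_of_card_eq_prime_sq hq).is_comm.comm
    (QuotientGroup.mk (⟨x, hx⟩ : P)) (QuotientGroup.mk ⟨y, hy⟩)
  have h2 : ((⟨x, hx⟩ * ⟨y, hy⟩ * ⟨x, hx⟩⁻¹ * ⟨y, hy⟩⁻¹ : P) : P ⧸ (zc P).subgroupOf P) = 1 := by
    simp only [QuotientGroup.mk_mul, QuotientGroup.mk_inv]
    rw [this]; group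
  have h3 := (QuotientGroup.eq_one_iff _).mp h2
  simpa [Subgroup.mem_subgroupOf] using h3

theorem zc_le_nine {P D : Subgroup G} (hP : Nat.card P = 27) (hZ : Nat.card (zc P) = 3)
    (hDP : D ≤ P) (hD : Nat.card D = 9) : zc P ≤ D := by
  haveI : Fact (Nat.Prime 3) := ⟨Nat.prime_three⟩
  intro z hz
  by_contra hzD
  have hcomm := (IsPGroup.isMulCommutative_of_card_eq_prime_sq (p := 3) (G := D)
    (by rw [hD]; norm_num)).is_comm.comm
  have hsub : D ≤ zc P := by
    intro d hd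
    set K := P ⊓ Subgroup.centralizer ({d} : Set G)
    have hle : D ≤ K := fun w hw => ⟨hDP hw, Subgroup.mem_centralizer_singleton_iff.mpr
      (congrArg Subtype.val (hcomm ⟨w, hw⟩ ⟨d, hd⟩))⟩
    have := card_lt_of_mem hle (x := z) ⟨zc_le P hz,
      Subgroup.mem_centralizer_singleton_iff.mpr ((mem_zc.mp hz).2 d (hDP hd))⟩ hzD
    have hK : K = P := eq_of_card inf_le_left hP (by omega)
    refine mem_zc.mpr ⟨hDP hd, fun w hw => ?_⟩
    have hw' : w ∈ K := hK ▸ hw
    exact (Subgroup.mem_centralizer_singleton_iff.mp hw'.2).symm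
  have := Subgroup.card_le_of_le hsub
  omega

theorem mem_three {H : Subgroup G} (h : Nat.card H = 3) {z : G} (hz : z ∈ H) (hz1 : z ≠ 1) {x : G}
    (hx : x ∈ H) : x = 1 ∨ x = z ∨ x = z * z := by
  haveI : Fact (Nat.Prime 3) := ⟨Nat.prime_three⟩
  have hH : Subgroup.zpowers z = H := by
    refine Subgroup.eq_of_le_of_card_ge (Subgroup.zpowers_le.mpr hz) ?_
    rw [h, Nat.card_zpowers]
    have h3 : z ^ 3 = 1 := by
      have := pow_card_eq_one' (G := H) (x := ⟨z, hz⟩)
      rw [h] at this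
      simpa using congrArg Subtype.val this
    rw [orderOf_eq_prime h3 hz1]
  rw [← hH] at hx
  obtain ⟨k, hk⟩ := mem_powers_iff_mem_zpowers.mpr hx
  have ho : orderOf z = 3 := by rw [← Nat.card_zpowers, hH, h]
  have hk' : z ^ (k % 3) = x := by rw [← ho, pow_mod_orderOf]; exact hk
  have : k % 3 < 3 := Nat.mod_lt _ (by norm_num)
  interval_cases hm : k % 3
  · exact Or.inl (by rw [← hk', pow_zero])
  · exact Or.inr (Or.inl (by rw [← hk', pow_one]))
  · exact Or.inr (Or.inr (by rw [← hk', pow_two]))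

theorem mem_of_index_two {P C : Subgroup G} (hPC : P ≤ C) (hC : Nat.card C = 2 * Nat.card P)
    {x : G} (hx : x ∈ C) (hx27 : x ^ 27 = 1) : x ∈ P := by
  have hi : (P.subgroupOf C).index = 2 := by
    have h := Subgroup.card_mul_index (P.subgroupOf C)
    rw [Nat.card_congr (Subgroup.subgroupOfEquivOfLe hPC).toEquiv, hC] at h
    have hpos : 0 < Nat.card P := Nat.card_pos
    rw [mul_comm 2] at h
    exact Nat.eq_of_mul_eq_mul_left hpos h
  have h2 : x * x ∈ P := Subgroup.mul_self_mem_of_index_two hi ⟨x, hx⟩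
  have e : x = (x * x) ^ 14 := by
    rw [← pow_two, ← pow_mul, show 2 * 14 = 27 + 1 from rfl, pow_succ, hx27, one_mul]
  rw [e]
  exact pow_mem h2 14

theorem card_cent_conj (g x : G) :
    Nat.card (Subgroup.centralizer ({g * x * g⁻¹} : Set G)) =
      Nat.card (Subgroup.centralizer ({x} : Set G)) := by
  refine (Nat.card_congr ((MulAut.conj g).toEquiv.subtypeEquiv fun y => ?_)).symm
  show y ∈ _ ↔ g * y * g⁻¹ ∈ _
  rw [Subgroup.mem_centralizer_singleton_iff, Subgroup.mem_centralizer_singleton_iff]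
  constructor
  · intro h
    calc g * y * g⁻¹ * (g * x * g⁻¹) = g * (y * x) * g⁻¹ := by group
      _ = g * (x * y) * g⁻¹ := by rw [h]
      _ = g * x * g⁻¹ * (g * y * g⁻¹) := by group
  · intro h
    calc y * x = g⁻¹ * (g * y * g⁻¹ * (g * x * g⁻¹)) * g := by group
      _ = g⁻¹ * (g * x * g⁻¹ * (g * y * g⁻¹)) * g := by rw [h]
      _ = x * y := by group

variable (hG : Nat.card G = 27 * 208)
include hG

theorem exists_27 {x : G} (hx : x ^ 27 = 1) : ∃ P : Subgroup G, Nat.card P = 27 ∧ x ∈ P := by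
  haveI : Fact (Nat.Prime 3) := ⟨Nat.prime_three⟩
  have hp : IsPGroup 3 (Subgroup.zpowers x) := by
    refine fun y => ⟨3, ?_⟩
    obtain ⟨k, hk⟩ := Subgroup.mem_zpowers_iff.mp y.2
    apply Subtype.ext
    rw [Subgroup.coe_pow, ← hk, ← zpow_natCast, ← zpow_mul, mul_comm, zpow_mul, zpow_natCast]
    norm_num [hx]
  obtain ⟨P, hP⟩ := hp.exists_le_sylow
  refine ⟨P, ?_, hP (Subgroup.mem_zpowers x)⟩
  rw [Sylow.card_eq_multiplicity, hG]
  have : (27 * 208 : ℕ).factorization 3 = 3 := by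
    rw [show (27 : ℕ) = 3 ^ 3 by norm_num, Nat.factorization_mul (by norm_num) (by norm_num),
      Nat.Prime.factorization_pow Nat.prime_three]
    simp [Nat.factorization_eq_zero_of_not_dvd]
  rw [this]; norm_num

theorem conj_27 {P Q : Subgroup G} (hP : Nat.card P = 27) (hQ : Nat.card Q = 27) :
    ∃ g : G, ∀ x : G, x ∈ Q ↔ g⁻¹ * x * g ∈ P := by
  haveI : Fact (Nat.Prime 3) := ⟨Nat.prime_three⟩
  have hf : (27 * 208 : ℕ).factorization 3 = 3 := by
    rw [show (27 : ℕ) = 3 ^ 3 by norm_num, Nat.factorization_mul (by norm_num) (by norm_num),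
      Nat.Prime.factorization_pow Nat.prime_three]
    simp [Nat.factorization_eq_zero_of_not_dvd]
  let P' : Sylow 3 G := Sylow.ofCard P (by rw [hP, hG, hf]; norm_num)
  let Q' : Sylow 3 G := Sylow.ofCard Q (by rw [hQ, hG, hf]; norm_num)
  obtain ⟨g, hg⟩ := MulAction.exists_smul_eq G P' Q'
  refine ⟨g, fun x => ?_⟩
  have : x ∈ (Q' : Subgroup G) ↔ g⁻¹ * x * g ∈ (P' : Subgroup G) := by
    rw [← hg, Sylow.coe_subgroup_smul]
    rw [Subgroup.mem_pointwise_smul_iff_inv_smul_mem, ← map_inv, MulAut.smul_def,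
      MulAut.conj_apply, inv_inv]
  exact this

end Cfsg.Agent.Lib.RecogThree.L33.Three
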