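import Cfsg.Agent.Lib.RecogThree.L33.Count
import Cfsg.Agent.Lib.RecogThree.L33.Three

/-!
The centraliser of an element of order three commuting with an involution has order `54`, and the
Sylow `3`-subgroups are not abelian.
-/

set_option autoImplicit false
set_option linter.style.haveILetI false
set_option linter.unusedSectionVars false

namespace Cfsg.Agent.Lib.RecogThree.L33.Local

open Three

universe u

/-- The data attached to an element of order three centralising the involution `t`. -/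
structure Base (G : Type u) [Group G] where
  t : G
  e : Subgroup.centralizer ({t} : Set G) ≃* Matrix.GeneralLinearGroup (Fin 2) (ZMod 3)
  card : Nat.card G = 5616
  ht : orderOf t = 2
  a : G
  ha : orderOf a = 3
  hat : Commute a t
  hL : Nat.card ↥(Subgroup.centralizer ({t} : Set G) ⊓ Subgroup.centralizer ({a} : Set G)) = 6
  inv : IsConj a a⁻¹
  hconj : ∀ b : G, Commute b t → orderOf b = 3 → IsConj a b

variable {G : Type u} [Group G] [Finite G] [IsSimpleGroup G]

theorem exists_base {t : G}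
    (e : Subgroup.centralizer ({t} : Set G) ≃* Matrix.GeneralLinearGroup (Fin 2) (ZMod 3))
    (hG : Nat.card G = 5616) (ht : orderOf t = 2) : Nonempty (Base G) := by
  obtain ⟨a, ha, hat, h6, ⟨s, -, hs⟩, hconj⟩ := Setup.exists_a e
  have h3 : a ^ 3 = 1 := ha ▸ pow_orderOf_eq_one a
  refine ⟨⟨t, e, hG, ht, a, ha, hat, ?_, isConj_iff.mpr ⟨s, ?_⟩, fun b hb hbo => ?_⟩⟩
  · rw [← h6]
    exact Nat.card_congr
      { toFun := fun z => ⟨⟨z.1, z.2.1⟩, Subgroup.mem_centralizer_singleton_iff.mp z.2.2⟩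
        invFun := fun z => ⟨z.1.1, z.1.2, Subgroup.mem_centralizer_singleton_iff.mpr z.2⟩
        left_inv := fun z => rfl
        right_inv := fun z => rfl }
  · rw [hs]
    exact eq_inv_of_mul_eq_one_left (by rw [← pow_succ, h3])
  · obtain ⟨g, -, hg⟩ := hconj b hb hbo
    exact (isConj_iff.mpr ⟨g, hg⟩).symm

variable (B : Base G)

theorem card' (B : Base G) : Nat.card G = 27 * 208 := by rw [B.card]

theorem a_cube : B.a ^ 3 = 1 := B.ha ▸ pow_orderOf_eq_one B.a

theorem a_ne_one : B.a ≠ 1 := fun h => by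
  have := B.ha
  rw [h, orderOf_one] at this
  omega

theorem a_mem_cent : B.a ∈ Subgroup.centralizer ({B.a} : Set G) :=
  Subgroup.mem_centralizer_singleton_iff.mpr rfl

theorem t_mem_cent : B.t ∈ Subgroup.centralizer ({B.a} : Set G) :=
  Subgroup.mem_centralizer_singleton_iff.mpr B.hat.eq.symm

theorem t_sq : B.t * B.t = 1 := by
  rw [← pow_two, ← B.ht, pow_orderOf_eq_one]

theorem t_inv : B.t⁻¹ = B.t := inv_eq_of_mul_eq_one_right (t_sq B)

theorem pow_27_of_cube {x : G} (h : x ^ 3 = 1) : x ^ 27 = 1 := by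
  rw [show (27 : ℕ) = 3 * 9 from rfl, pow_mul, h, one_pow]

theorem pow_27_conj {x y : G} (h : IsConj x y) (hx : x ^ 27 = 1) : y ^ 27 = 1 := by
  obtain ⟨g, rfl⟩ := isConj_iff.mp h
  rw [conj_pow, hx]; group

theorem cube_of_conj {x : G} (h : IsConj B.a x) : x ^ 3 = 1 := by
  obtain ⟨g, rfl⟩ := isConj_iff.mp h
  rw [conj_pow, a_cube]; group

theorem card_cent_of_conj {x y : G} (h : IsConj x y) :
    Nat.card (Subgroup.centralizer ({y} : Set G)) = Nat.card (Subgroup.centralizer ({x} : Set G)) := by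
  obtain ⟨g, rfl⟩ := isConj_iff.mp h
  exact card_cent_conj g x

theorem isConj_inv {x y : G} (h : IsConj x y) : IsConj x⁻¹ y⁻¹ := by
  obtain ⟨g, rfl⟩ := isConj_iff.mp h
  exact isConj_iff.mpr ⟨g, by group⟩

variable [Fact (Nat.Prime 13)]

theorem not_thirteen (B : Base G) {x : G} (hx1 : x ≠ 1) (hx : x ^ 27 = 1) :
    ¬ 13 ∣ Nat.card (Subgroup.centralizer ({x} : Set G)) := by
  intro h
  obtain ⟨⟨y, hy⟩, hyo⟩ := exists_prime_orderOf_dvd_card' 13 h
  rw [Subgroup.orderOf_mk] at hyo
  have hxy : x ∈ Subgroup.centralizer ({y} : Set G) :=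
    Subgroup.mem_centralizer_singleton_iff.mpr (Subgroup.mem_centralizer_singleton_iff.mp hy).symm
  rw [Setup.cent_13 B.e B.card B.ht hyo] at hxy
  have h1 := orderOf_dvd_of_mem_zpowers hxy
  rw [hyo] at h1
  have h2 := orderOf_dvd_of_pow_eq_one hx
  have := Nat.dvd_gcd h1 h2
  norm_num [Nat.gcd] at this
  exact hx1 this

/-- A `3`-element with centraliser of even order is conjugate to `a`. -/
theorem isConj_of_even {x : G} (hx1 : x ≠ 1) (hx : x ^ 27 = 1)
    (h : 2 ∣ Nat.card (Subgroup.centralizer ({x} : Set G))) : IsConj B.a x := by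
  haveI : Fact (Nat.Prime 2) := ⟨Nat.prime_two⟩
  haveI : Fact (Nat.Prime 3) := ⟨Nat.prime_three⟩
  obtain ⟨⟨i, hi⟩, hio⟩ := exists_prime_orderOf_dvd_card' 2 h
  rw [Subgroup.orderOf_mk] at hio
  have hci : Commute x i := (Subgroup.mem_centralizer_singleton_iff.mp hi).symm
  have h24 := orderOf_dvd_of_pow_eq_one (Setup.conj_pow_24 B.e B.card B.ht hio hci)
  have h27 := orderOf_dvd_of_pow_eq_one hx
  have h3 := Nat.dvd_gcd h24 h27
  rw [show Nat.gcd 24 27 = 3 by norm_num] at h3
  have ho : orderOf x = 3 := ((Nat.dvd_prime Nat.prime_three).mp h3).resolve_left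
    fun e1 => hx1 (orderOf_eq_one_iff.mp e1)
  obtain ⟨g, hg⟩ := Setup.all_conj B.e B.card B.ht hio
  subst hg
  have hc : Commute (g⁻¹ * x * g) B.t := by
    rw [commute_iff_eq]
    calc g⁻¹ * x * g * B.t = g⁻¹ * (x * (g * B.t * g⁻¹)) * g := by group
      _ = g⁻¹ * (g * B.t * g⁻¹ * x) * g := by rw [hci.eq]
      _ = B.t * (g⁻¹ * x * g) := by group
  have hxc : IsConj x (g⁻¹ * x * g) := isConj_iff.mpr ⟨g⁻¹, by group⟩
  refine (B.hconj _ hc ?_).trans hxc.symm
  rw [← ho]
  simpa using MulEquiv.orderOf_eq (MulAut.conj g⁻¹) x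

theorem cent_dvd_27 {x : G} (hx1 : x ≠ 1) (hx : x ^ 27 = 1) (hna : ¬ IsConj B.a x) :
    Nat.card (Subgroup.centralizer ({x} : Set G)) ∣ 27 := by
  set n := Nat.card (Subgroup.centralizer ({x} : Set G))
  have hn : n ∣ 5616 := B.card ▸ Subgroup.card_subgroup_dvd_card _
  have h2 : ¬ 2 ∣ n := fun h => hna (isConj_of_even B hx1 hx h)
  have h13 : ¬ 13 ∣ n := not_thirteen B hx1 hx
  have hc : Nat.Coprime n (2 ^ 4 * 13) :=
    ((Nat.prime_two.coprime_iff_not_dvd.mpr h2).symm.pow_right 4).mul_right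
      ((Nat.Prime.coprime_iff_not_dvd (by norm_num)).mpr h13).symm
  exact hc.dvd_of_dvd_mul_left hn

theorem a_pow_27 : B.a ^ 27 = 1 := pow_27_of_cube (a_cube B)

theorem cent_a : Nat.card (Subgroup.centralizer ({B.a} : Set G)) = 18 ∨
    Nat.card (Subgroup.centralizer ({B.a} : Set G)) = 54 := by
  haveI : Fact (Nat.Prime 2) := ⟨Nat.prime_two⟩
  set C := Subgroup.centralizer ({B.a} : Set G) with hC
  have h2 : 2 ∣ Nat.card C := by
    rw [← B.ht, ← Subgroup.orderOf_mk B.t (t_mem_cent B)]
    exact orderOf_dvd_natCard _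
  have h4 : ¬ 4 ∣ Nat.card C := by
    intro h4
    set T : Subgroup C := Subgroup.zpowers ⟨B.t, t_mem_cent B⟩
    have hT : Nat.card T = 2 ^ 1 := by rw [Nat.card_zpowers, Subgroup.orderOf_mk, B.ht, pow_one]
    obtain ⟨K, hK, hTK⟩ := Sylow.exists_subgroup_card_pow_succ (G := C) (n := 1) h4 hT
    have hcomm := (IsPGroup.isMulCommutative_of_card_eq_prime_sq (p := 2) (G := K) hK).is_comm.comm
    have hle : K.map C.subtype ≤
        Subgroup.centralizer ({B.t} : Set G) ⊓ Subgroup.centralizer ({B.a} : Set G) := by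
      rintro _ ⟨k, hk, rfl⟩
      refine ⟨Subgroup.mem_centralizer_singleton_iff.mpr ?_, k.2⟩
      exact congrArg (fun z : K => ((z : C) : G))
        (hcomm ⟨k, hk⟩ ⟨⟨B.t, t_mem_cent B⟩, hTK (Subgroup.mem_zpowers _)⟩)
    have := Subgroup.card_dvd_of_le hle
    rw [Nat.card_congr (K.equivMapOfInjective _ C.subtype_injective).symm.toEquiv, hK, B.hL] at this
    norm_num at this
  have h13 := not_thirteen B (a_ne_one B) (a_pow_27 B)
  obtain ⟨P, hP, haP⟩ := exists_27 (card' B) (a_pow_27 B)
  have h9 := nine_le_cent hP haP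
  have hn : Nat.card C ∈ Nat.divisors 5616 :=
    Nat.mem_divisors.mpr ⟨B.card ▸ Subgroup.card_subgroup_dvd_card C, by norm_num⟩
  have key : ∀ n ∈ Nat.divisors 5616, 2 ∣ n → ¬ 4 ∣ n → ¬ 13 ∣ n → 9 ∣ n → n = 18 ∨ n = 54 := by
    decide +kernel
  exact key _ hn h2 h4 h13 h9

theorem card_class_mul (B : Base G) (x : G) :
    Nat.card {y : G // IsConj x y} * Nat.card (Subgroup.centralizer ({x} : Set G)) = 5616 := by
  rw [SmallGroups.Counting.card_isConj_mul, B.card]

/-- A `3`-element commuting with `a` and `t` is a power of `a`. -/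
theorem mem_a_powers {w : G} (hwt : Commute w B.t) (hwa : Commute w B.a) (hw : w ^ 27 = 1) :
    w = 1 ∨ w = B.a ∨ w = B.a * B.a := by
  have h3 : Nat.card (Subgroup.zpowers B.a) = 3 := by rw [Nat.card_zpowers, B.ha]
  have hle : Subgroup.zpowers B.a ≤
      Subgroup.centralizer ({B.t} : Set G) ⊓ Subgroup.centralizer ({B.a} : Set G) :=
    Subgroup.zpowers_le.mpr ⟨Subgroup.mem_centralizer_singleton_iff.mpr B.hat.eq, a_mem_cent B⟩
  exact mem_three h3 (Subgroup.mem_zpowers _) (a_ne_one B) (mem_of_index_two hle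
    (by rw [B.hL, h3]) ⟨Subgroup.mem_centralizer_singleton_iff.mpr hwt.eq,
      Subgroup.mem_centralizer_singleton_iff.mpr hwa.eq⟩ hw)

theorem mul_conj_center {P : Subgroup G} (hP : Nat.card P = 27) (hZ : Nat.card (zc P) = 3)
    {a p : G} (ha : a ∈ P) (hp : p ∈ P) (hpa : p * a ≠ a * p) {w : G} (hw : w ∈ zc P) :
    IsConj a (w * a) := by
  set c := p * a * p⁻¹ * a⁻¹
  have hc : c ∈ zc P := commutator_mem hP hZ hp ha
  have hc1 : c ≠ 1 := fun h => hpa (by
    calc p * a = c * a * p := by simp only [c]; group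
      _ = a * p := by rw [h, one_mul])
  rcases mem_three hZ hc hc1 hw with rfl | rfl | rfl
  · rw [one_mul]
  · exact isConj_iff.mpr ⟨p, by simp only [c]; group⟩
  · refine isConj_iff.mpr ⟨p * p, ?_⟩
    have hcp : c * p = p * c := (mem_zc.mp hc).2 p hp
    calc p * p * a * (p * p)⁻¹ = p * (c * a) * p⁻¹ := by simp only [c]; group
      _ = (p * c) * a * p⁻¹ := by group
      _ = (c * p) * a * p⁻¹ := by rw [hcp]
      _ = c * c * a := by simp only [c]; group

theorem not_eighteen : Nat.card (Subgroup.centralizer ({B.a} : Set G)) ≠ 18 := by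
  intro h18
  classical
  letI := Fintype.ofFinite G
  obtain ⟨P, hP, haP⟩ := exists_27 (card' B) (a_pow_27 B)
  have hnc : ¬ ∀ x ∈ P, ∀ y ∈ P, x * y = y * x := by
    intro hc
    have := Subgroup.card_dvd_of_le (show P ≤ Subgroup.centralizer ({B.a} : Set G) from
      fun x hx => Subgroup.mem_centralizer_singleton_iff.mpr (hc x hx _ haP))
    rw [hP, h18] at this
    norm_num at this
  have hZ := card_zc hP hnc
  obtain ⟨p, hp, hpa⟩ : ∃ p ∈ P, p * B.a ≠ B.a * p := by
    by_contra hc
    push Not at hc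
    have := Subgroup.card_dvd_of_le (show P ≤ Subgroup.centralizer ({B.a} : Set G) from
      fun x hx => Subgroup.mem_centralizer_singleton_iff.mpr (hc x hx))
    rw [hP, h18] at this
    norm_num at this
  obtain ⟨z, hz, hz1⟩ : ∃ z ∈ zc P, z ≠ 1 := by
    by_contra hc
    push Not at hc
    have := (Subgroup.eq_bot_iff_forall _).mpr hc
    rw [this, Subgroup.card_bot] at hZ
    omega
  have hzP : P ≤ Subgroup.centralizer ({z} : Set G) := fun x hx =>
    Subgroup.mem_centralizer_singleton_iff.mpr ((mem_zc.mp hz).2 x hx).symm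
  have hz27 : z ^ 27 = 1 := pow_27 hP (zc_le P hz)
  have hna : ¬ IsConj B.a z := by
    intro hc
    have := Subgroup.card_dvd_of_le hzP
    rw [hP, card_cent_of_conj hc, h18] at this
    norm_num at this
  have hCz : Subgroup.centralizer ({z} : Set G) = P := (Subgroup.eq_of_le_of_card_ge hzP (by
    rw [hP]; exact Nat.le_of_dvd (by norm_num) (cent_dvd_27 B hz1 hz27 hna))).symm
  -- the subgroup of order nine of the centraliser of `a`
  set K := P ⊓ Subgroup.centralizer ({B.a} : Set G) with hKdef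
  have hK : Nat.card K = 9 := by
    have h1 := Subgroup.card_dvd_of_le (inf_le_left : K ≤ P)
    have h2 := Subgroup.card_dvd_of_le (inf_le_right : K ≤ Subgroup.centralizer ({B.a} : Set G))
    have hle : zc P ≤ K := fun w hw => ⟨zc_le P hw,
      Subgroup.mem_centralizer_singleton_iff.mpr ((mem_zc.mp hw).2 _ haP)⟩
    have h3 := card_lt_of_mem hle (x := B.a) ⟨haP, a_mem_cent B⟩
      (fun h => hpa ((mem_zc.mp h).2 p hp).symm)
    rw [hP] at h1
    rw [h18] at h2
    rcases dvd_cases h1 with e | e | e | e <;> rw [e] at h2 h3 <;> first | exact e | omega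
  haveI : Fact (Nat.Prime 3) := ⟨Nat.prime_three⟩
  have hKc := (IsPGroup.isMulCommutative_of_card_eq_prime_sq (p := 3) (G := K)
    (by rw [hK]; norm_num)).is_comm.comm
  have hzK : z ∈ K := ⟨zc_le P hz,
    Subgroup.mem_centralizer_singleton_iff.mpr ((mem_zc.mp hz).2 _ haP)⟩
  set x := B.t * z * B.t with hxdef
  have hxz : IsConj z x := isConj_iff.mpr ⟨B.t, by rw [t_inv]⟩
  have hxC : x ∈ Subgroup.centralizer ({B.a} : Set G) :=
    mul_mem (mul_mem (t_mem_cent B) hzK.2) (t_mem_cent B)
  have hxK : x ∈ K := mem_of_index_two inf_le_right (by rw [h18, hK]) hxC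
    (pow_27_conj hxz hz27)
  have hcomm : x * z = z * x := congrArg Subtype.val (hKc ⟨x, hxK⟩ ⟨z, hzK⟩)
  have hwt : Commute (x * z) B.t := by
    rw [commute_iff_eq]
    symm
    calc B.t * (x * z) = B.t * B.t * z * B.t * z := by rw [hxdef]; group
      _ = z * B.t * z * (B.t * B.t) := by rw [t_sq]; group
      _ = z * x * B.t := by rw [hxdef]; group
      _ = x * z * B.t := by rw [hcomm]
  have hwK : x * z ∈ K := mul_mem hxK hzK
  have hinv : IsConj z z⁻¹ := by
    have ha2 : B.a * B.a = B.a⁻¹ := eq_inv_of_mul_eq_one_left (by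
      rw [← pow_two, ← pow_succ, a_cube])
    rcases mem_a_powers B hwt (Subgroup.mem_centralizer_singleton_iff.mp hwK.2)
      (pow_27 hP hwK.1) with h | h | h
    · rw [← eq_inv_of_mul_eq_one_left h]
      exact hxz
    · exfalso
      apply hna
      refine IsConj.trans ?_ hxz.symm
      have hx' : x = z⁻¹ * B.a := by
        rw [(mem_zc.mp (inv_mem hz)).2 _ haP, ← h]; group
      rw [hx']
      exact mul_conj_center hP hZ haP hp hpa (inv_mem hz)
    · exfalso
      apply hna
      refine IsConj.trans ?_ hxz.symm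
      have hx' : x = (z * B.a)⁻¹ := by
        rw [mul_inv_rev, ← ha2, ← h]; group
      rw [hx']
      exact B.inv.trans (isConj_inv (mul_conj_center hP hZ haP hp hpa hz))
  -- classify the elements of 3-power order
  have hcls : ∀ x : G, x ≠ 1 → x ^ 27 = 1 → IsConj B.a x ∨ IsConj z x ∨
      Nat.card (Subgroup.centralizer ({x} : Set G)) = 9 := by
    intro x hx1 hx
    by_cases hxa : IsConj B.a x
    · exact Or.inl hxa
    have hd := cent_dvd_27 B hx1 hx hxa
    obtain ⟨Q, hQ, hxQ⟩ := exists_27 (card' B) hx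
    have h9 := nine_le_cent hQ hxQ
    rcases dvd_cases hd with e | e | e | e
    · rw [e] at h9; norm_num at h9
    · rw [e] at h9; norm_num at h9
    · exact Or.inr (Or.inr e)
    · obtain ⟨g, hg⟩ := conj_27 (card' B) hP e
      have hx' : g⁻¹ * x * g ∈ zc P := by
        refine mem_zc.mpr ⟨(hg x).mp (Subgroup.mem_centralizer_singleton_iff.mpr rfl), fun y hy => ?_⟩
        have hy' : g * y * g⁻¹ ∈ Subgroup.centralizer ({x} : Set G) := (hg _).mpr (by
          rwa [show g⁻¹ * (g * y * g⁻¹) * g = y by group])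
        calc g⁻¹ * x * g * y = g⁻¹ * (x * (g * y * g⁻¹)) * g := by group
          _ = g⁻¹ * (g * y * g⁻¹ * x) * g := by
            rw [Subgroup.mem_centralizer_singleton_iff.mp hy']
          _ = y * (g⁻¹ * x * g) := by group
      have hxc : IsConj (g⁻¹ * x * g) x := isConj_iff.mpr ⟨g, by group⟩
      rcases mem_three hZ hz hz1 hx' with h | h | h
      · exfalso; apply hx1
        calc x = g * (g⁻¹ * x * g) * g⁻¹ := by group
          _ = 1 := by rw [h]; group
      · exact Or.inr (Or.inl (by rwa [h] at hxc))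
      · refine Or.inr (Or.inl (hinv.trans ?_))
        have hzz : z * z = z⁻¹ := by
          rcases mem_three hZ hz hz1 (inv_mem hz) with h' | h' | h'
          · exact absurd (inv_eq_one.mp h') hz1
          · exfalso
            have h2 : z ^ 2 = 1 := by rw [pow_two]; exact inv_eq_iff_mul_eq_one.mp h'
            have := Nat.dvd_gcd (orderOf_dvd_of_pow_eq_one h2) (orderOf_dvd_of_pow_eq_one hz27)
            norm_num at this
            exact hz1 this
          · exact h'.symm
        rwa [h, hzz] at hxc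
  set S := (Finset.univ : Finset G).filter fun g => g ≠ 1 ∧ g ^ 27 = 1 with hS
  have hScard : S.card = 728 := by
    rw [← Count.card_three B.e B.card B.ht, Nat.card_eq_fintype_card, Fintype.card_subtype]
  set cl := fun x : G => (Finset.univ : Finset G).filter fun y => IsConj x y with hcl
  have hclc : ∀ x : G, (cl x).card * Nat.card (Subgroup.centralizer ({x} : Set G)) = 5616 := by
    intro x
    rw [← card_class_mul B x, Nat.card_eq_fintype_card (α := {y : G // IsConj x y}),
      Fintype.card_subtype]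
  have h1 := hclc B.a
  have h2 := hclc z
  rw [h18] at h1
  rw [hCz, hP] at h2
  have hsub : ∀ x : G, x ≠ 1 → x ^ 27 = 1 → cl x ⊆ S := by
    intro x hx1 hx y hy
    simp only [hcl, Finset.mem_filter, Finset.mem_univ, true_and] at hy
    simp only [hS, Finset.mem_filter, Finset.mem_univ, true_and]
    refine ⟨fun h => hx1 ?_, pow_27_conj hy hx⟩
    subst h
    exact isConj_one_left.mp hy
  have hdisj : ∀ x y : G, ¬ IsConj x y → Disjoint (cl x) (cl y) := by
    intro x y hxy
    rw [Finset.disjoint_left]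
    intro w hw hw'
    simp only [hcl, Finset.mem_filter, Finset.mem_univ, true_and] at hw hw'
    exact hxy (hw.trans hw'.symm)
  by_cases hex : ∃ x : G, x ≠ 1 ∧ x ^ 27 = 1 ∧
      Nat.card (Subgroup.centralizer ({x} : Set G)) = 9
  · obtain ⟨x, hx1, hx, h9⟩ := hex
    have h3 := hclc x
    rw [h9] at h3
    have hne : ¬ IsConj B.a x := fun h => by
      have := card_cent_of_conj h; omega
    have hne' : ¬ IsConj z x := fun h => by
      have := card_cent_of_conj h
      rw [h9, hCz, hP] at this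
      omega
    have := Finset.card_le_card (Finset.union_subset (Finset.union_subset
      (hsub B.a (a_ne_one B) (a_pow_27 B)) (hsub z hz1 hz27)) (hsub x hx1 hx))
    rw [Finset.card_union_of_disjoint (Finset.disjoint_union_left.mpr
      ⟨hdisj _ _ hne, hdisj _ _ hne'⟩), Finset.card_union_of_disjoint (hdisj _ _ hna), hScard]
      at this
    omega
  · push Not at hex
    have hS' : S ⊆ cl B.a ∪ cl z := by
      intro x hx
      simp only [hS, Finset.mem_filter, Finset.mem_univ, true_and] at hx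
      simp only [hcl, Finset.mem_union, Finset.mem_filter, Finset.mem_univ, true_and]
      rcases hcls x hx.1 hx.2 with h | h | h
      · exact Or.inl h
      · exact Or.inr h
      · exact absurd h (hex x hx.1 hx.2)
    have := (Finset.card_le_card hS').trans (Finset.card_union_le _ _)
    omega

theorem card_cent_a : Nat.card (Subgroup.centralizer ({B.a} : Set G)) = 54 :=
  (cent_a B).resolve_left (not_eighteen B)

theorem exists_sylow_cent : ∃ P : Subgroup G, Nat.card P = 27 ∧
    P ≤ Subgroup.centralizer ({B.a} : Set G) ∧ B.a ∈ P := by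
  haveI : Fact (Nat.Prime 3) := ⟨Nat.prime_three⟩
  set C := Subgroup.centralizer ({B.a} : Set G)
  obtain ⟨K, hK⟩ := Sylow.exists_subgroup_card_pow_prime 3 (G := C) (n := 3)
    (by rw [card_cent_a B]; norm_num)
  have hc : Nat.card (K.map C.subtype) = 27 := by
    rw [Nat.card_congr (K.equivMapOfInjective _ C.subtype_injective).symm.toEquiv, hK]
    norm_num
  refine ⟨K.map C.subtype, hc, Subgroup.map_subtype_le K, mem_of_index_two
    (Subgroup.map_subtype_le K) (by rw [hc, card_cent_a B]) (a_mem_cent B) (a_pow_27 B)⟩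

theorem not_comm (B : Base G) {P : Subgroup G} (hP : Nat.card P = 27) :
    ¬ ∀ x ∈ P, ∀ y ∈ P, x * y = y * x := by
  intro hc
  haveI : Fact (Nat.Prime 3) := ⟨Nat.prime_three⟩
  have hf : (Nat.card G).factorization 3 = 3 := by
    rw [card' B, show (27 : ℕ) = 3 ^ 3 by norm_num,
      Nat.factorization_mul (by norm_num) (by norm_num),
      Nat.Prime.factorization_pow Nat.prime_three]
    simp [Nat.factorization_eq_zero_of_not_dvd]
  have hQc : ∀ Q : Sylow 3 G, Nat.card (Q : Subgroup G) = 27 := fun Q => by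
    rw [Sylow.card_eq_multiplicity, hf]; norm_num
  have hab : ∀ (Q : Sylow 3 G) (x : G), x ∈ (Q : Subgroup G) →
      (Q : Subgroup G) ≤ Subgroup.centralizer ({x} : Set G) := by
    intro Q x hx y hy
    obtain ⟨g, hg⟩ := conj_27 (card' B) hP (hQc Q)
    rw [Subgroup.mem_centralizer_singleton_iff]
    calc y * x = g * ((g⁻¹ * y * g) * (g⁻¹ * x * g)) * g⁻¹ := by group
      _ = g * ((g⁻¹ * x * g) * (g⁻¹ * y * g)) * g⁻¹ := by
        rw [hc _ ((hg y).mp hy) _ ((hg x).mp hx)]
      _ = x * y := by group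
  have hTI : ∀ (Q R : Sylow 3 G) (x : G), x ∈ (Q : Subgroup G) → x ∈ (R : Subgroup G) →
      x ≠ 1 → Q = R := by
    intro Q R x hxQ hxR hx1
    have hx := pow_27 (hQc Q) hxQ
    apply Sylow.ext
    by_cases hxa : IsConj B.a x
    · have h54 := (card_cent_of_conj hxa).trans (card_cent_a B)
      exact (Subgroup.eq_of_le_of_card_ge (fun y hy => mem_of_index_two (hab Q x hxQ)
        (by rw [h54, hQc]) (hab R x hxR hy) (pow_27 (hQc R) hy)) (by rw [hQc, hQc])).symm
    · have hd := Nat.le_of_dvd (by norm_num) (cent_dvd_27 B hx1 hx hxa)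
      rw [Subgroup.eq_of_le_of_card_ge (hab Q x hxQ) (by rw [hQc]; exact hd),
        Subgroup.eq_of_le_of_card_ge (hab R x hxR) (by rw [hQc]; exact hd)]
  have h := SmallGroups.Counting.card_p_elements_of_ti hTI
  have he : Nat.card {g : G // g ≠ 1 ∧ ∃ Q : Sylow 3 G, g ∈ (Q : Subgroup G)} =
      Nat.card {g : G // g ≠ 1 ∧ g ^ 27 = 1} := by
    refine Nat.card_congr (Equiv.subtypeEquivRight fun g => and_congr_right fun _ => ⟨?_, ?_⟩)
    · rintro ⟨Q, hgQ⟩
      exact pow_27 (hQc Q) hgQ
    · intro hg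
      obtain ⟨Q, hQ, hgQ⟩ := exists_27 (card' B) hg
      exact ⟨Sylow.ofCard Q (by rw [hQ, hf]; norm_num), hgQ⟩
  rw [he, Count.card_three B.e B.card B.ht, hf] at h
  have hd := SmallGroups.Sylow.card_sylow_dvd (p := 3) (G := G) (a := 3) (m := 208)
    (by rw [B.card]; norm_num) (by norm_num)
  norm_num at h
  have hn : Nat.card (Sylow 3 G) = 28 := by omega
  rw [hn] at hd
  norm_num at hd

end Cfsg.Agent.Lib.RecogThree.L33.Local
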