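import Cfsg.Agent.Lib.RecogThree.L33.Index
import Cfsg.Agent.Lib.RecogThree.L33.Cert
import Mathlib.GroupTheory.GroupAction.Quotient

/-!
A simple group of order `5616` with an involution centraliser `GL(2,3)` is determined up to
isomorphism: it is generated by three fixed permutations of thirteen points.
-/

set_option autoImplicit false
set_option linter.style.haveILetI false
set_option linter.unusedSectionVars false

namespace Cfsg.Agent.Lib.RecogThree.L33.Model

open Three Local Cfsg.Agent.Lib.SmallGroups Cfsg.Agent.Lib.Induced GL23 GL23Exceptional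

universe u v

/-- Generators of a group realised as the three fixed permutations. -/
structure Model (G : Type u) [Group G] where
  φ : G →* Equiv.Perm (Fin 13)
  inj : Function.Injective φ
  x : G
  y : G
  u : G
  hx : ⇑(φ x) = Cert.X
  hy : ⇑(φ y) = Cert.Y
  hu : ⇑(φ u) = Cert.U0
  gen : Subgroup.closure {x, y, u} = ⊤

theorem Model.range_eq {G : Type u} [Group G] (M : Model G) :
    M.φ.range = Subgroup.closure {M.φ M.x, M.φ M.y, M.φ M.u} := by
  rw [MonoidHom.range_eq_map, ← M.gen, MonoidHom.map_closure, Set.image_insert_eq,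
    Set.image_insert_eq, Set.image_singleton]

theorem nonempty_mulEquiv {G : Type u} {G' : Type v} [Group G] [Group G'] (M : Model G)
    (M' : Model G') : Nonempty (G ≃* G') := by
  have e : M.φ.range = M'.φ.range := by
    rw [M.range_eq, M'.range_eq,
      Equiv.coe_fn_injective (M.hx.trans M'.hx.symm),
      Equiv.coe_fn_injective (M.hy.trans M'.hy.symm),
      Equiv.coe_fn_injective (M.hu.trans M'.hu.symm)]
  exact ⟨(MonoidHom.ofInjective M.inj).trans
    ((MulEquiv.subgroupCongr e).trans (MonoidHom.ofInjective M'.inj).symm)⟩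

theorem gl_inverting : ∀ x ∈ inv, pw x 3 = oneT →
    ∃ g ∈ invol, g ∈ inv ∧ mu g x = mu (pw x 2) g := by
  decide +kernel

variable {G : Type u} [Group G] [Finite G] [IsSimpleGroup G] [Fact (Nat.Prime 13)]

/-- The facts from which the permutations are reconstructed. -/
structure Seed (G : Type u) [Group G] [Finite G] [Fact (Nat.Prime 13)] : Prop where
  card : Nat.card G = 5616
  card_P : ∀ P : Sylow 13 G, Nat.card (P : Subgroup G) = 13
  card_N : ∀ P : Sylow 13 G, Nat.card (Subgroup.normalizer ((P : Subgroup G) : Set G)) = 39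
  cent : ∀ {x : G}, orderOf x = 13 →
    Subgroup.centralizer ({x} : Set G) = Subgroup.zpowers x
  index13 : ∃ H : Subgroup G, H.index = 13
  inverting : ∀ {x y : G}, orderOf x = 13 → orderOf y = 3 → y * x * y⁻¹ = x ^ 3 →
    ∃ u : G, orderOf u = 2 ∧ u * y * u⁻¹ = y⁻¹

theorem exists_xy (B : Seed G) :
    ∃ x y : G, orderOf x = 13 ∧ orderOf y = 3 ∧ y * x * y⁻¹ = x ^ 3 := by
  haveI : Fact (Nat.Prime 3) := ⟨Nat.prime_three⟩
  obtain ⟨P⟩ := (inferInstance : Nonempty (Sylow 13 G))
  have hP := B.card_P P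
  obtain ⟨⟨x, hxP⟩, hx⟩ := exists_prime_orderOf_dvd_card' (G := (P : Subgroup G)) 13 (by rw [hP])
  rw [Subgroup.orderOf_mk] at hx
  obtain ⟨⟨y, hyN⟩, hy⟩ := exists_prime_orderOf_dvd_card'
    (G := Subgroup.normalizer ((P : Subgroup G) : Set G)) 3
    (by rw [B.card_N P]; norm_num)
  rw [Subgroup.orderOf_mk] at hy
  have hPx : Subgroup.zpowers x = (P : Subgroup G) :=
    Subgroup.eq_of_le_of_card_ge (Subgroup.zpowers_le.mpr hxP) (by rw [hP, Nat.card_zpowers, hx])
  obtain ⟨k, hk⟩ := (mem_powers_iff_mem_zpowers.mpr (hPx.symm ▸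
    (Subgroup.mem_normalizer_iff.mp hyN x).mp hxP) : y * x * y⁻¹ ∈ Submonoid.powers x)
  have hk' : y * x * y⁻¹ = x ^ (k % 13) := by rw [← hx, pow_mod_orderOf]; exact hk.symm
  set j := k % 13 with hj
  have hpow : ∀ n : ℕ, y ^ n * x * (y ^ n)⁻¹ = x ^ j ^ n := by
    intro n
    induction n with
    | zero => simp
    | succ n ih =>
      calc y ^ (n + 1) * x * (y ^ (n + 1))⁻¹ = y * (y ^ n * x * (y ^ n)⁻¹) * y⁻¹ := by
            rw [pow_succ']; group
        _ = x ^ j ^ (n + 1) := by rw [ih, ← conj_pow, hk', ← pow_mul, pow_succ']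
  have h3 := hpow 3
  rw [← hy, pow_orderOf_eq_one, one_mul, inv_one, mul_one, hy] at h3
  have h3' : j ^ 3 % 13 = 1 := by
    have h' : x ^ 1 = x ^ j ^ 3 := by rw [pow_one]; exact h3
    rw [pow_eq_pow_iff_modEq, hx] at h'
    exact h'.symm
  have hj1 : j ≠ 1 := by
    intro e1
    rw [e1, pow_one] at hk'
    have hyC : y ∈ Subgroup.centralizer ({x} : Set G) :=
      Subgroup.mem_centralizer_singleton_iff.mpr (mul_inv_eq_iff_eq_mul.mp hk')
    rw [B.cent hx] at hyC
    have := orderOf_dvd_of_mem_zpowers hyC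
    rw [hx, hy] at this
    norm_num at this
  have key : ∀ j : Fin 13, j.1 ^ 3 % 13 = 1 → j.1 ≠ 1 → j.1 = 3 ∨ j.1 = 9 := by decide +kernel
  rcases key ⟨j, Nat.mod_lt _ (by norm_num)⟩ h3' hj1 with e1 | e1 <;> replace e1 : j = _ := e1
  · exact ⟨x, y, hx, hy, by rw [hk', e1]⟩
  · refine ⟨x, y ^ 2, hx, ?_, ?_⟩
    · exact orderOf_eq_prime (by rw [← pow_mul, mul_comm, pow_mul, ← hy, pow_orderOf_eq_one,
        one_pow]) fun h => by
          have := orderOf_dvd_of_pow_eq_one h
          rw [hy] at this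
          norm_num at this
    · rw [hpow 2, e1, ← pow_mod_orderOf, hx, show 9 ^ 2 % 13 = 3 from rfl]

/-- An element of order three is inverted by an involution. -/
theorem exists_u (B : Base G) {y : G} (hy : orderOf y = 3) :
    ∃ u : G, orderOf u = 2 ∧ u * y * u⁻¹ = y⁻¹ := by
  classical
  letI := Fintype.ofFinite G
  haveI : Fact (Nat.Prime 2) := ⟨Nat.prime_two⟩
  have hy1 : y ≠ 1 := fun h => by rw [h, orderOf_one] at hy; omega
  have hy3 : y ^ 3 = 1 := hy ▸ pow_orderOf_eq_one y
  have hy27 := pow_27_of_cube hy3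
  by_cases hya : IsConj B.a y
  · obtain ⟨h, rfl⟩ := isConj_iff.mp hya
    have ham : B.a ∈ Subgroup.centralizer ({B.t} : Set G) :=
      Subgroup.mem_centralizer_singleton_iff.mpr B.hat.eq
    obtain ⟨g, hg, hgi, hga⟩ := gl_inverting _ (q_mem B.e ⟨B.a, ham⟩) (by
      rw [← q_pow, ← q_one B.e]; exact congrArg _ (Subtype.ext (by simpa using a_cube B)))
    obtain ⟨s, hs⟩ := exists_q B.e hgi
    rw [← hs, ← q_pow, ← q_mul, ← q_mul] at hga
    rw [← hs] at hg
    have hso : orderOf (s : G) = 2 := (q_mem_invol B.e).mp hg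
    have hsa : (s : G) * B.a = B.a ^ 2 * s := by
      simpa using congrArg Subtype.val (q_injective B.e hga)
    have ha2 : B.a ^ 2 = B.a⁻¹ := eq_inv_of_mul_eq_one_left (by rw [← pow_succ, a_cube])
    refine ⟨h * s * h⁻¹, ?_, ?_⟩
    · exact ((MulAut.conj h).orderOf_eq (s : G)).trans hso
    · calc h * s * h⁻¹ * (h * B.a * h⁻¹) * (h * s * h⁻¹)⁻¹
          = h * ((s : G) * B.a * (s : G)⁻¹) * h⁻¹ := by group
        _ = h * B.a⁻¹ * h⁻¹ := by rw [hsa, ha2]; group
        _ = (h * B.a * h⁻¹)⁻¹ := by group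
  · have hna' : ¬ IsConj B.a y⁻¹ := fun h => hya (by
      have := B.inv.trans (isConj_inv h)
      rwa [inv_inv] at this)
    have hd := cent_dvd_27 B hy1 hy27 hya
    obtain ⟨Q, hQ, hyQ⟩ := exists_27 (card' B) hy27
    have h9 : Nat.card (Subgroup.centralizer ({y} : Set G)) = 9 := by
      have h9 := nine_le_cent hQ hyQ
      rcases dvd_cases hd with e | e | e | e
      · rw [e] at h9; norm_num at h9
      · rw [e] at h9; norm_num at h9
      · exact e
      · exfalso
        obtain ⟨P, hP, hPC, haP⟩ := exists_sylow_cent B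
        obtain ⟨g, hg⟩ := conj_27 (card' B) hP e
        have hy' : g⁻¹ * y * g ∈ zc P := by
          refine mem_zc.mpr ⟨(hg y).mp (Subgroup.mem_centralizer_singleton_iff.mpr rfl),
            fun w hw => ?_⟩
          have hw' : g * w * g⁻¹ ∈ Subgroup.centralizer ({y} : Set G) := (hg _).mpr (by
            rwa [show g⁻¹ * (g * w * g⁻¹) * g = w by group])
          calc g⁻¹ * y * g * w = g⁻¹ * (y * (g * w * g⁻¹)) * g := by group
            _ = g⁻¹ * (g * w * g⁻¹ * y) * g := by
              rw [Subgroup.mem_centralizer_singleton_iff.mp hw']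
            _ = w * (g⁻¹ * y * g) := by group
        have hyc : IsConj (g⁻¹ * y * g) y := isConj_iff.mpr ⟨g, by group⟩
        rcases mem_three (card_zc hP (not_comm B hP)) (Index.a_mem_zc B hPC haP) (a_ne_one B) hy'
          with h | h | h <;> rw [h] at hyc
        · exact hy1 (isConj_one_left.mp hyc.symm)
        · exact hya hyc
        · apply hya
          refine B.inv.trans ?_
          rwa [← eq_inv_of_mul_eq_one_left (show B.a * B.a * B.a = 1 by
            rw [← pow_two, ← pow_succ, a_cube])]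
    -- all these elements are conjugate
    have hconj : IsConj y y⁻¹ := by
      by_contra hne
      set cl := fun x : G => (Finset.univ : Finset G).filter fun w => IsConj x w with hcl
      have hclc : ∀ x : G, (cl x).card * Nat.card (Subgroup.centralizer ({x} : Set G)) = 5616 := by
        intro x
        rw [← card_class_mul B x, Nat.card_eq_fintype_card (α := {w : G // IsConj x w}),
          Fintype.card_subtype]
      have h1 := hclc B.a
      have h2 := hclc y
      have h3 := hclc y⁻¹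
      rw [card_cent_a B] at h1
      rw [h9] at h2
      have hCi : Subgroup.centralizer ({y⁻¹} : Set G) = Subgroup.centralizer ({y} : Set G) := by
        ext w
        rw [Subgroup.mem_centralizer_singleton_iff, Subgroup.mem_centralizer_singleton_iff]
        exact Commute.inv_right_iff
      rw [hCi, h9] at h3
      have hsub : ∀ x : G, x ≠ 1 → x ^ 27 = 1 →
          cl x ⊆ Finset.univ.filter fun g => g ≠ 1 ∧ g ^ 27 = 1 := by
        intro x hx1 hx w hw
        simp only [hcl, Finset.mem_filter, Finset.mem_univ, true_and] at hw ⊢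
        refine ⟨fun h => hx1 ?_, pow_27_conj hw hx⟩
        subst h
        exact isConj_one_left.mp hw
      have hdisj : ∀ x w : G, ¬ IsConj x w → Disjoint (cl x) (cl w) := by
        intro x w hxw
        rw [Finset.disjoint_left]
        intro z hz hz'
        simp only [hcl, Finset.mem_filter, Finset.mem_univ, true_and] at hz hz'
        exact hxw (hz.trans hz'.symm)
      have := Finset.card_le_card (Finset.union_subset (Finset.union_subset
        (hsub B.a (a_ne_one B) (a_pow_27 B)) (hsub y hy1 hy27))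
        (hsub y⁻¹ (inv_ne_one.mpr hy1) (by rw [inv_pow, hy27, inv_one])))
      rw [Finset.card_union_of_disjoint (Finset.disjoint_union_left.mpr
        ⟨hdisj _ _ hna', hdisj _ _ hne⟩), Finset.card_union_of_disjoint (hdisj _ _ hya)] at this
      have h728 := Count.card_three B.e B.card B.ht
      rw [Nat.card_eq_fintype_card, Fintype.card_subtype] at h728
      omega
    obtain ⟨g, hg⟩ := isConj_iff.mp hconj
    have hg2 : g ^ 2 * y * (g ^ 2)⁻¹ = y := by
      calc g ^ 2 * y * (g ^ 2)⁻¹ = g * (g * y * g⁻¹) * g⁻¹ := by rw [pow_two]; group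
        _ = g * y⁻¹ * g⁻¹ := by rw [hg]
        _ = (g * y * g⁻¹)⁻¹ := by group
        _ = y := by rw [hg, inv_inv]
    have hgC : g ^ 2 ∈ Subgroup.centralizer ({y} : Set G) :=
      Subgroup.mem_centralizer_singleton_iff.mpr (mul_inv_eq_iff_eq_mul.mp hg2)
    have hg18 : (g ^ 9) ^ 2 = 1 := by
      have h := pow_card_eq_one' (G := Subgroup.centralizer ({y} : Set G)) (x := ⟨g ^ 2, hgC⟩)
      rw [h9] at h
      have h' : (g ^ 2) ^ 9 = 1 := by simpa using congrArg Subtype.val h
      rwa [← pow_mul, mul_comm, pow_mul] at h'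
    have hc8 : Commute ((g ^ 2) ^ 4) y := (show Commute (g ^ 2) y from
      Subgroup.mem_centralizer_singleton_iff.mp hgC).pow_left 4
    have hinv : g ^ 9 * y * (g ^ 9)⁻¹ = y⁻¹ := by
      rw [show g ^ 9 = g * (g ^ 2) ^ 4 by rw [← pow_mul, ← pow_succ']]
      calc g * (g ^ 2) ^ 4 * y * (g * (g ^ 2) ^ 4)⁻¹
          = g * ((g ^ 2) ^ 4 * y * ((g ^ 2) ^ 4)⁻¹) * g⁻¹ := by group
        _ = y⁻¹ := by rw [hc8.eq, mul_inv_cancel_right, hg]
    refine ⟨g ^ 9, orderOf_eq_prime hg18 fun h => ?_, hinv⟩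
    rw [h, one_mul, inv_one, mul_one] at hinv
    have : y ^ 2 = 1 := by rw [pow_two]; nth_rw 1 [hinv]; exact inv_mul_cancel y
    have := orderOf_dvd_of_pow_eq_one this
    rw [hy] at this
    norm_num at this

theorem y_mul_pow {x y : G} (hyx : y * x * y⁻¹ = x ^ 3) (m : ℕ) : y * x ^ m = x ^ (3 * m) * y := by
  rw [← mul_inv_eq_iff_eq_mul, ← conj_pow, hyx, pow_mul]

theorem exists_phi (B : Seed G) {x y : G} (hx : orderOf x = 13) (hyx : y * x * y⁻¹ = x ^ 3) :
    ∃ φ : G →* Equiv.Perm (Fin 13), Function.Injective φ ∧ ⇑(φ x) = Cert.X ∧ ⇑(φ y) = Cert.Y := by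
  classical
  obtain ⟨H, hH⟩ := B.index13
  haveI := Fintype.ofFinite (G ⧸ H)
  have hX : Nat.card (G ⧸ H) = 13 := by rw [← hH]; rfl
  set π := MulAction.toPermHom G (G ⧸ H) with hπ
  have hπinj : Function.Injective π :=
    SmallGroups.Sylow.toPermHom_injective (fun h => by rw [h, Subgroup.index_top] at hH; omega)
  obtain ⟨q, hq⟩ : ∃ q : G ⧸ H, x • q ≠ q := by
    by_contra hall
    push Not at hall
    have : π x = π 1 := Equiv.ext fun q => by rw [map_one]; exact hall q
    have := hπinj this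
    rw [this, orderOf_one] at hx
    omega
  have hx13 : x ^ 13 = 1 := hx ▸ pow_orderOf_eq_one x
  have hxmod : ∀ i : ℕ, x ^ i = x ^ (i % 13) := fun i => by rw [← hx, pow_mod_orderOf]
  have hfree : ∀ i : ℕ, x ^ i • q = q → 13 ∣ i := by
    intro i hi
    by_contra hd
    obtain ⟨m, hm⟩ := exists_pow_eq_self_of_coprime (x := x) (n := i)
      (by rw [hx]; exact ((Nat.Prime.coprime_iff_not_dvd (by norm_num)).mpr hd).symm)
    refine hq ?_
    rw [← hm]
    clear hm
    induction m with
    | zero => simp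
    | succ m ih => rw [pow_succ, mul_smul, hi, ih]
  let f : Fin 13 → G ⧸ H := fun i => x ^ i.1 • q
  have hf : Function.Bijective f := by
    rw [Nat.bijective_iff_injective_and_card]
    refine ⟨fun i j e => ?_, by rw [Nat.card_eq_fintype_card, Fintype.card_fin, hX]⟩
    apply Fin.ext
    have h1 : x ^ (13 - j.1 + i.1) • q = q := by
      show _ = _
      rw [pow_add, mul_smul, show x ^ i.1 • q = x ^ j.1 • q from e, ← mul_smul, ← pow_add,
        Nat.sub_add_cancel j.2.le, hx13, one_smul]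
    have := hfree _ h1
    have := i.2
    have := j.2
    omega
  obtain ⟨k, hk⟩ := hf.2 (y • q)
  set p₀ := x ^ (6 * k.1) • q with hp₀
  have hyp₀ : y • p₀ = p₀ := by
    rw [hp₀, ← mul_smul, y_mul_pow hyx, mul_smul, ← hk]
    show x ^ (3 * (6 * k.1)) • x ^ k.1 • q = _
    rw [← mul_smul, ← pow_add, hxmod, hxmod (6 * k.1)]
    congr 2
    omega
  let e' : Fin 13 → G ⧸ H := fun i => x ^ i.1 • p₀
  have he' : Function.Bijective e' := by
    rw [Nat.bijective_iff_injective_and_card]
    refine ⟨fun i j e => ?_, by rw [Nat.card_eq_fintype_card, Fintype.card_fin, hX]⟩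
    simp only [e', hp₀, ← mul_smul, ← pow_add] at e
    rw [hxmod, hxmod (j.1 + _)] at e
    have := hf.1 (a₁ := ⟨_, Nat.mod_lt _ (by norm_num)⟩) (a₂ := ⟨_, Nat.mod_lt _ (by norm_num)⟩) e
    simp only [Fin.mk.injEq] at this
    apply Fin.ext
    omega
  let e : Fin 13 ≃ G ⧸ H := Equiv.ofBijective e' he'
  let φ : G →* Equiv.Perm (Fin 13) := e.symm.permCongrHom.toMonoidHom.comp π
  have hφ : ∀ (g : G) (i : Fin 13), e ((φ g) i) = g • e i := fun g i => by
    show e (e.symm (g • e i)) = _
    rw [Equiv.apply_symm_apply]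
  have heval : ∀ i : Fin 13, e i = x ^ i.1 • p₀ := fun i => rfl
  refine ⟨φ, e.symm.permCongrHom.injective.comp hπinj, ?_, ?_⟩
  · funext i
    apply e.injective
    rw [hφ, heval, heval, (Cert.X_Y i).1, ← mul_smul, ← pow_succ', hxmod]
  · funext i
    apply e.injective
    rw [hφ, heval, heval, (Cert.X_Y i).2, ← mul_smul, y_mul_pow hyx, mul_smul, hyp₀, hxmod]

theorem orderOf_perm_dvd (σ : Equiv.Perm (Fin 13)) : orderOf σ ∣ 360360 := by
  rw [← Equiv.Perm.lcm_cycleType, Multiset.lcm_dvd]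
  intro n hn
  have h2 := Equiv.Perm.two_le_of_mem_cycleType hn
  have hle : n ≤ 13 := (Equiv.Perm.le_card_support_of_mem_cycleType hn).trans
    ((Finset.card_le_univ _).trans (by rw [Fintype.card_fin]))
  have key : ∀ k : Fin 14, 2 ≤ k.1 → k.1 ∣ 360360 := by decide +kernel
  exact key ⟨n, by omega⟩ h2

theorem order_cases (B : Seed G) {φ : G →* Equiv.Perm (Fin 13)} (hφ : Function.Injective φ)
    (w : G) : w ^ 72 = 1 ∨ w ^ 13 = 1 := by
  by_cases h13 : 13 ∣ orderOf w
  · right
    obtain ⟨k, hk⟩ := h13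
    have hk0 : k ≠ 0 := fun h => (orderOf_pos w).ne' (by rw [hk, h, mul_zero])
    have hw : orderOf (w ^ k) = 13 := by
      rw [orderOf_pow, hk, Nat.gcd_mul_left_left, Nat.mul_div_cancel _ (Nat.pos_of_ne_zero hk0)]
    have hmem : w ∈ Subgroup.centralizer ({w ^ k} : Set G) :=
      Subgroup.mem_centralizer_singleton_iff.mpr ((Commute.refl w).pow_right k).eq
    rw [B.cent hw] at hmem
    have := orderOf_dvd_of_mem_zpowers hmem
    rw [hw] at this
    exact orderOf_dvd_iff_pow_eq_one.mp this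
  · left
    refine orderOf_dvd_iff_pow_eq_one.mp ?_
    have h1 : orderOf w ∣ 432 * 13 := by
      rw [show 432 * 13 = Nat.card G by rw [B.card]]
      exact orderOf_dvd_natCard w
    have h2 : orderOf w ∣ 432 :=
      (((Nat.Prime.coprime_iff_not_dvd Fact.out).mpr h13).symm).dvd_of_dvd_mul_right h1
    have h3 := orderOf_perm_dvd (φ w)
    rw [orderOf_injective φ hφ w] at h3
    exact Nat.dvd_gcd h2 h3

theorem not_forbidden (B : Seed G) {φ : G →* Equiv.Perm (Fin 13)} (hφ : Function.Injective φ)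
    (w : G) : ¬ Cert.Forbidden (⇑(φ w)) := by
  rintro ⟨i, j, hi, hj⟩
  have h : ∀ n : ℕ, w ^ n = 1 → ∀ a, (⇑(φ w))^[n] a = a := by
    intro n hn a
    rw [← Equiv.Perm.coe_pow, ← map_pow, hn, map_one]
    rfl
  rcases order_cases B hφ w with h' | h'
  · exact hi (h _ h' i)
  · exact hj (h _ h' j)

theorem word_image {φ : G →* Equiv.Perm (Fin 13)} {x y u : G} (hx : ⇑(φ x) = Cert.X)
    (hy : ⇑(φ y) = Cert.Y) {v : Fin 13 → Fin 13} (hu : ⇑(φ u) = v) :
    ∀ q ∈ Cert.words v, ∃ w : G, ⇑(φ w) = q := by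
  have hX : ∀ n : ℕ, ⇑(φ (x ^ n)) = Cert.X^[n] := fun n => by
    rw [map_pow, Equiv.Perm.coe_pow, hx]
  intro q hq
  simp only [Cert.words, List.mem_cons, List.not_mem_nil, or_false] at hq
  rcases hq with rfl | rfl | rfl | rfl | rfl | rfl
  · exact ⟨x * u, by rw [map_mul, Equiv.Perm.coe_mul, hx, hu]⟩
  · exact ⟨x * (x * (y * (y * u))), by
      rw [map_mul, map_mul, map_mul, map_mul, Equiv.Perm.coe_mul, Equiv.Perm.coe_mul,
        Equiv.Perm.coe_mul, Equiv.Perm.coe_mul, hx, hy, hu]⟩
  · exact ⟨x * (y * (y * u)), by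
      rw [map_mul, map_mul, map_mul, Equiv.Perm.coe_mul, Equiv.Perm.coe_mul,
        Equiv.Perm.coe_mul, hx, hy, hu]⟩
  · exact ⟨x * (y * u), by
      rw [map_mul, map_mul, Equiv.Perm.coe_mul, Equiv.Perm.coe_mul, hx, hy, hu]⟩
  · exact ⟨x * (u * (x ^ 2 * u)), by
      rw [map_mul, map_mul, map_mul, Equiv.Perm.coe_mul, Equiv.Perm.coe_mul,
        Equiv.Perm.coe_mul, hX, hx, hu]⟩
  · exact ⟨x * (u * (x ^ 7 * u)), by
      rw [map_mul, map_mul, map_mul, Equiv.Perm.coe_mul, Equiv.Perm.coe_mul,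
        Equiv.Perm.coe_mul, hX, hx, hu]⟩

theorem generate (B : Seed G) {x y u : G} (hx : orderOf x = 13) (hy : orderOf y = 3)
    (hyx : y * x * y⁻¹ = x ^ 3) (hu : orderOf u = 2) : Subgroup.closure {x, y, u} = ⊤ := by
  set K := Subgroup.closure ({x, y, u} : Set G)
  have hxK : x ∈ K := Subgroup.subset_closure (by simp)
  have hyK : y ∈ K := Subgroup.subset_closure (by simp)
  have huK : u ∈ K := Subgroup.subset_closure (by simp)
  obtain ⟨P, hP⟩ := (IsPGroup.of_card (p := 13) (n := 1)
    (by rw [Nat.card_zpowers, hx, pow_one] : Nat.card (Subgroup.zpowers x) = 13 ^ 1)).exists_le_sylow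
  have hPx : Subgroup.zpowers x = (P : Subgroup G) :=
    Subgroup.eq_of_le_of_card_ge hP (by rw [B.card_P P, Nat.card_zpowers, hx])
  set N := Subgroup.normalizer ((P : Subgroup G) : Set G) with hNdef
  have hN : Nat.card N = 39 := B.card_N P
  have hyN : y ∈ N := by
    rw [hNdef, ← hPx]
    refine Subgroup.mem_normalizer_fintype fun n hn => ?_
    obtain ⟨k, rfl⟩ := Subgroup.mem_zpowers_iff.mp hn
    rw [SetLike.mem_coe, ← conj_zpow, hyx]
    exact Subgroup.zpow_mem _ (Subgroup.npow_mem_zpowers x 3) k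
  have hxN : x ∈ N := Subgroup.le_normalizer (hP (Subgroup.mem_zpowers x))
  have h39 : 39 ∣ Nat.card ↥(K ⊓ N) :=
    Nat.Coprime.mul_dvd_of_dvd_of_dvd (m := 3) (n := 13) (by norm_num)
      (hy ▸ Subgroup.orderOf_dvd_natCard _ ⟨hyK, hyN⟩)
      (hx ▸ Subgroup.orderOf_dvd_natCard _ ⟨hxK, hxN⟩)
  have hle : N ≤ K := by
    have := Subgroup.eq_of_le_of_card_ge (inf_le_right : K ⊓ N ≤ N)
      (by rw [hN]; exact Nat.le_of_dvd Nat.card_pos h39)
    exact this ▸ inf_le_left
  have hPK : (P : Subgroup G) ≤ K := Subgroup.le_normalizer.trans hle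
  have hk : Nat.card (Sylow 13 K) =
      (Subgroup.normalizer (((P : Subgroup G).subgroupOf K : Subgroup K) : Set K)).index :=
    Sylow.card_eq_index_normalizer (P.subtype hPK)
  rw [← Subgroup.subgroupOf_normalizer_eq hPK, ← hNdef] at hk
  have hidx := Subgroup.card_mul_index (N.subgroupOf K)
  rw [Nat.card_congr (Subgroup.subgroupOfEquivOfLe hle).toEquiv, hN, ← hk] at hidx
  have hmod := SmallGroups.Sylow.card_sylow_mod (G := K) (p := 13)
  have h2 : 2 ∣ Nat.card K := hu ▸ Subgroup.orderOf_dvd_natCard _ huK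
  have hdvd : Nat.card K ∣ 5616 := B.card ▸ Subgroup.card_subgroup_dvd_card K
  set n := Nat.card (Sylow 13 K)
  rw [← hidx] at hdvd h2
  have hn144 : n ∣ 144 := Nat.dvd_of_mul_dvd_mul_left (by norm_num : 0 < 39) hdvd
  have key : ∀ n ∈ Nat.divisors 144, n % 13 = 1 → 2 ∣ 39 * n → n = 144 := by decide +kernel
  have hn := key n (Nat.mem_divisors.mpr ⟨hn144, by norm_num⟩) hmod h2
  exact Subgroup.eq_top_of_card_eq K (by rw [B.card, ← hidx, hn])

theorem exists_model_of_seed (B : Seed G) : Nonempty (Model G) := by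
  obtain ⟨x, y, hx, hy, hyx⟩ := exists_xy B
  obtain ⟨u, hu, huy⟩ := B.inverting hx hy hyx
  obtain ⟨φ, hinj, hφx, hφy⟩ := exists_phi B hx hyx
  have hy2 : y⁻¹ = y ^ 2 := (eq_inv_of_mul_eq_one_left (show y ^ 2 * y = 1 by
    rw [← pow_succ, show 2 + 1 = orderOf y from hy.symm, pow_orderOf_eq_one])).symm
  rw [hy2] at huy
  have hcomm : ∀ i, φ u (Cert.Y i) = Cert.Y (Cert.Y (φ u i)) := by
    intro i
    have : φ (u * y) = φ (y * y * u) := by rw [← pow_two, ← huy]; group
    have := DFunLike.congr_fun this i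
    simpa [map_mul, Equiv.Perm.mul_apply, hφy] using this
  have hu0 : φ u 0 = 0 := Cert.Y_fixed _ (by
    have := hcomm 0
    rwa [show Cert.Y 0 = 0 from rfl, eq_comm] at this)
  have hiter : ∀ (n : ℕ) i, φ u (Cert.Y^[n] i) = Cert.Y^[2 * n] (φ u i) := by
    intro n
    induction n with
    | zero => intro i; rfl
    | succ n ih =>
      intro i
      rw [Function.iterate_succ_apply, ih, hcomm, mul_add, mul_one,
        Function.iterate_add_apply Cert.Y (2 * n) 2]
      rfl
  set c := φ u 1 with hc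
  set d := φ u 2 with hd
  set f := φ u 4 with hf
  set g := φ u 7 with hg
  have hU : ⇑(φ u) = Cert.U c d f g := by
    funext i
    rcases Cert.U_table i with rfl | ⟨k, rfl | rfl | rfl | rfl⟩
    · exact hu0
    · rw [hiter, (Cert.U_eval c d f g k).1, hc]
    · rw [hiter, (Cert.U_eval c d f g k).2.1, hd]
    · rw [hiter, (Cert.U_eval c d f g k).2.2.1, hf]
    · rw [hiter, (Cert.U_eval c d f g k).2.2.2, hg]
  have hinv : ∀ i, Cert.U c d f g (Cert.U c d f g i) = i := by
    intro i
    rw [← hU, ← Equiv.Perm.mul_apply, ← map_mul, ← pow_two, ← hu, pow_orderOf_eq_one, map_one]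
    rfl
  have hword : ∀ q ∈ Cert.words (Cert.U c d f g), ¬ Cert.Forbidden q := by
    intro q hq hqf
    obtain ⟨w, rfl⟩ := word_image hφx hφy hU q hq
    exact not_forbidden B hinj w hqf
  obtain ⟨s, hs⟩ := (Cert.search c d f g hinv).resolve_right fun hb => by
    obtain ⟨q, hq, hqf⟩ := Cert.bad_iff hb
    exact hword q hq hqf
  obtain ⟨hsX, hsY, hsinj⟩ := Cert.M_facts s
  let m : Fin 13 ≃ Fin 13 := Equiv.ofBijective _ (Finite.injective_iff_bijective.mp hsinj)
  have hev : ∀ (h : G) (v : Fin 13 → Fin 13), (∀ i, φ h (m i) = m (v i)) →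
      ⇑((m.symm.permCongrHom.toMonoidHom.comp φ) h) = v := by
    intro h v hv
    funext i
    show m.symm (φ h (m i)) = _
    rw [hv, Equiv.symm_apply_apply]
  refine ⟨⟨m.symm.permCongrHom.toMonoidHom.comp φ, m.symm.permCongrHom.injective.comp hinj,
    x ^ (s.1 + 1), y, u, hev _ _ fun i => ?_, hev _ _ fun i => ?_, hev _ _ fun i => ?_, ?_⟩⟩
  · rw [map_pow, Equiv.Perm.coe_pow, hφx]; exact (hsX i).symm
  · rw [hφy]; exact (hsY i).symm
  · rw [hU]; exact hs i
  · refine generate B ?_ hy ?_ hu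
    · rw [orderOf_pow' _ (by omega), hx, Nat.Coprime.gcd_eq_one
        ((Nat.Prime.coprime_iff_not_dvd (by norm_num)).mpr fun h => by
          have := Nat.le_of_dvd (by omega) h
          have := s.2
          omega), Nat.div_one]
    · rw [← conj_pow, hyx, ← pow_mul, ← pow_mul, mul_comm]

theorem exists_model {t : G}
    (e : Subgroup.centralizer ({t} : Set G) ≃* Matrix.GeneralLinearGroup (Fin 2) (ZMod 3))
    (hG : Nat.card G = 5616) (ht : orderOf t = 2) : Nonempty (Model G) := by
  obtain ⟨B⟩ := exists_base e hG ht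
  exact exists_model_of_seed
    { card := B.card
      card_P := fun P => Setup.card_P B.e B.card B.ht P
      card_N := fun P => Setup.card_N B.e B.card B.ht P
      cent := fun hx => Setup.cent_13 B.e B.card B.ht hx
      index13 := Index.exists_index_thirteen B
      inverting := fun _ hy _ => exists_u B hy }

theorem unique {G' : Type v} [Group G'] [Finite G'] [IsSimpleGroup G'] {t : G} {t' : G'}
    (e : Subgroup.centralizer ({t} : Set G) ≃* Matrix.GeneralLinearGroup (Fin 2) (ZMod 3))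
    (hG : Nat.card G = 5616) (ht : orderOf t = 2)
    (e' : Subgroup.centralizer ({t'} : Set G') ≃* Matrix.GeneralLinearGroup (Fin 2) (ZMod 3))
    (hG' : Nat.card G' = 5616) (ht' : orderOf t' = 2) : Nonempty (G ≃* G') := by
  obtain ⟨M⟩ := exists_model e hG ht
  obtain ⟨M'⟩ := exists_model e' hG' ht'
  exact nonempty_mulEquiv M M'

end Cfsg.Agent.Lib.RecogThree.L33.Model
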