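import Cfsg.Agent.Lib.Induced.GL23Exceptional
import Mathlib.GroupTheory.Sylow

/-!
A finite group without subgroups of index two with an involution centraliser `GL(2,3)` is simple.
-/

set_option autoImplicit false
set_option linter.style.haveILetI false
set_option linter.unusedSectionVars false

namespace Cfsg.Agent.Lib.RecogThree.L33.Reduce

open Cfsg.Agent.Lib.Induced GL23 GL23Exceptional

universe u

/-- Products of two involutions, or one, or none. -/
def pairs : Finset T := ((insert oneT invol) ×ˢ (insert oneT invol)).image fun p => mu p.1 p.2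

theorem gl_gen : ∀ x ∈ inv, ∃ a ∈ pairs, ∃ b ∈ pairs, x = mu a b := by
  decide +kernel

theorem gl_three : ∀ x ∈ inv, pw x 3 = oneT → x ≠ oneT →
    ∃ g ∈ inv, mu g x ≠ mu x g ∧ mu g x ≠ mu (mu x x) g := by
  decide +kernel

variable {G : Type u} [Group G] [Finite G] {t : G}
  (e : Subgroup.centralizer ({t} : Set G) ≃* Matrix.GeneralLinearGroup (Fin 2) (ZMod 3))
  (ht : orderOf t = 2) (hno : ∀ N : Subgroup G, N.index ≠ 2)

include e ht hno

theorem all_conj {i : G} (hi : orderOf i = 2) : ∃ g : G, g * t * g⁻¹ = i := by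
  obtain ⟨cu, hu⟩ := exists_q e uT_mem.1
  obtain ⟨o, hG, ho⟩ := card_eq_sixteen_mul_odd e ht
  have ou : orderOf (cu : G) = 8 := by
    haveI : Fact (Nat.Prime 2) := ⟨Nat.prime_two⟩
    rw [Subgroup.orderOf_coe]
    refine orderOf_eq_prime_pow (p := 2) (n := 2) (fun hh => ?_) (q_injective e ?_)
    · have := congrArg (q e) hh
      rw [q_pow, hu, q_one] at this
      exact oneT_ne_tT (this.symm.trans pow_data.2.1)
    · rw [q_pow, hu, q_one]; exact pow_data.1
  have hidx : (Subgroup.zpowers (cu : G)).index % 4 = 2 := by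
    have h := (Subgroup.zpowers (cu : G)).card_mul_index
    rw [Nat.card_zpowers, ou, hG] at h
    obtain ⟨m, rfl⟩ := ho
    omega
  obtain ⟨g, hg⟩ := Fusion.Thompson.exists_conj_mem _ hidx hno i hi
  obtain ⟨k, hk⟩ := (mem_powers_iff_mem_zpowers.mpr hg :
    g * i * g⁻¹ ∈ Submonoid.powers (cu : G))
  have hk' : (cu : G) ^ (k % 8) = g * i * g⁻¹ := by rw [← ou, pow_mod_orderOf]; exact hk
  have hord : orderOf ((cu ^ (k % 8) : Subgroup.centralizer ({t} : Set G)) : G) = 2 := by
    rw [Subgroup.coe_pow, hk', ← hi]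
    exact MulEquiv.orderOf_eq (MulAut.conj g) i
  have h1 := (q_mem_invol e).mpr hord
  rw [q_pow, hu] at h1
  have h2 := u_involutions ⟨k % 8, Nat.mod_lt _ (by norm_num)⟩ h1
  have h3 : cu ^ (k % 8) = ⟨t, t_mem⟩ := q_injective e (by rw [q_pow, hu, q_t e ht]; exact h2)
  refine ⟨g⁻¹, ?_⟩
  have h4 : g * i * g⁻¹ = t := by rw [← hk', ← Subgroup.coe_pow, h3]
  rw [← h4]; group

/-- An odd normal subgroup meets the centraliser of `t` trivially. -/
theorem inf_eq_one {N : Subgroup G} [N.Normal] (hN : ¬ 2 ∣ Nat.card N) {x : G} (hxN : x ∈ N)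
    (hxt : Commute x t) : x = 1 := by
  haveI : Fact (Nat.Prime 3) := ⟨Nat.prime_three⟩
  set C := Subgroup.centralizer ({t} : Set G) with hC
  have hxC : x ∈ C := Subgroup.mem_centralizer_singleton_iff.mpr hxt.eq
  set K := N ⊓ C with hK
  have hKN : Nat.card K ∣ Nat.card N := Subgroup.card_dvd_of_le inf_le_left
  have hKC : Nat.card K ∣ 48 := card_centralizer e ▸ Subgroup.card_dvd_of_le inf_le_right
  have h3 : Nat.card K ∣ 3 := by
    have hc : Nat.Coprime (Nat.card K) (2 ^ 4) :=
      ((Nat.prime_two.coprime_iff_not_dvd.mpr fun h => hN (h.trans hKN)).symm).pow_right 4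
    exact hc.dvd_of_dvd_mul_left hKC
  by_contra hx1
  have hcard : Nat.card K = 3 := ((Nat.dvd_prime Nat.prime_three).mp h3).resolve_left fun h1 =>
    hx1 (by
      have hbot : K = ⊥ := Subgroup.eq_bot_of_card_eq _ h1
      have : x ∈ K := ⟨hxN, hxC⟩
      rwa [hbot, Subgroup.mem_bot] at this)
  have hzp : Subgroup.zpowers x = K := by
    have hle : Subgroup.zpowers x ≤ K := Subgroup.zpowers_le.mpr ⟨hxN, hxC⟩
    refine Subgroup.eq_of_le_of_card_ge hle ?_
    have := Subgroup.card_dvd_of_le hle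
    rw [hcard] at this ⊢
    rcases (Nat.dvd_prime Nat.prime_three).mp this with h | h
    · exfalso
      rw [Nat.card_zpowers, orderOf_eq_one_iff] at h
      exact hx1 h
    · rw [h]
  have hox : orderOf x = 3 := by rw [← Nat.card_zpowers, hzp, hcard]
  have hq3 : pw (q e ⟨x, hxC⟩) 3 = oneT := by
    rw [← q_pow, ← q_one e]
    refine congrArg _ (Subtype.ext ?_)
    rw [Subgroup.coe_pow, ← hox, pow_orderOf_eq_one]
    rfl
  have hq1 : q e ⟨x, hxC⟩ ≠ oneT := by
    rw [← q_one e, (q_injective e).ne_iff]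
    exact fun h => hx1 (congrArg Subtype.val h)
  obtain ⟨g, hg, h1, h2⟩ := gl_three _ (q_mem e _) hq3 hq1
  obtain ⟨c, rfl⟩ := exists_q e hg
  rw [← q_mul, ← q_mul, (q_injective e).ne_iff, ne_eq, Subtype.ext_iff] at h1
  rw [← q_mul, ← q_mul, ← q_mul, (q_injective e).ne_iff, ne_eq, Subtype.ext_iff] at h2
  simp only [Subgroup.coe_mul] at h1 h2
  have hmem : (c : G) * x * (c : G)⁻¹ ∈ Subgroup.zpowers x := by
    rw [hzp]
    exact ⟨(inferInstance : N.Normal).conj_mem x hxN _, mul_mem (mul_mem c.2 hxC) (C.inv_mem c.2)⟩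
  obtain ⟨k, hk⟩ := mem_powers_iff_mem_zpowers.mpr hmem
  have hk' : x ^ (k % 3) = (c : G) * x * (c : G)⁻¹ := by rw [← hox, pow_mod_orderOf]; exact hk
  have : k % 3 < 3 := Nat.mod_lt _ (by norm_num)
  interval_cases hm : k % 3
  · rw [pow_zero, eq_comm, conj_eq_one_iff] at hk'
    exact hx1 hk'
  · rw [pow_one, eq_mul_inv_iff_mul_eq] at hk'
    exact h1 hk'.symm
  · rw [pow_two, eq_mul_inv_iff_mul_eq] at hk'
    exact h2 hk'.symm

/-- An odd normal subgroup is trivial. -/
theorem odd_eq_bot {N : Subgroup G} [N.Normal] (hN : ¬ 2 ∣ Nat.card N) : N = ⊥ := by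
  have hfix : ∀ i : G, orderOf i = 2 → ∀ x ∈ N, Commute x i → x = 1 := by
    intro i hi x hx hxi
    obtain ⟨g, hg⟩ := all_conj e ht hno hi
    subst hg
    have h1 : g⁻¹ * x * g ∈ N := by
      simpa using (inferInstance : N.Normal).conj_mem x hx g⁻¹
    have h2 : Commute (g⁻¹ * x * g) t := by
      rw [commute_iff_eq]
      calc g⁻¹ * x * g * t = g⁻¹ * (x * (g * t * g⁻¹)) * g := by group
        _ = g⁻¹ * (g * t * g⁻¹ * x) * g := by rw [hxi.eq]
        _ = t * (g⁻¹ * x * g) := by group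
    have := inf_eq_one e ht hno hN h1 h2
    calc x = g * (g⁻¹ * x * g) * g⁻¹ := by group
      _ = 1 := by rw [this]; group
  have hinv : ∀ i : G, orderOf i = 2 → ∀ m ∈ N, i * m * i⁻¹ = m⁻¹ := by
    intro i hi m hm
    have hii : i * i = 1 := by rw [← pow_two, ← hi, pow_orderOf_eq_one]
    let f : N → N := fun n => ⟨(n : G)⁻¹ * (i * n * i⁻¹),
      mul_mem (inv_mem n.2) ((inferInstance : N.Normal).conj_mem _ n.2 i)⟩
    have hf : Function.Injective f := by
      intro a b hab
      have h : (a : G)⁻¹ * (i * a * i⁻¹) = (b : G)⁻¹ * (i * b * i⁻¹) := congrArg Subtype.val hab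
      have hc : Commute ((b : G) * (a : G)⁻¹) i := by
        rw [commute_iff_eq]
        calc (b : G) * (a : G)⁻¹ * i
            = (b : G) * ((a : G)⁻¹ * (i * a * i⁻¹)) * i * (a : G)⁻¹ := by group
          _ = (b : G) * ((b : G)⁻¹ * (i * b * i⁻¹)) * i * (a : G)⁻¹ := by rw [h]
          _ = i * ((b : G) * (a : G)⁻¹) := by group
      have := hfix i hi _ (mul_mem b.2 (inv_mem a.2)) hc
      exact (Subtype.ext (mul_inv_eq_one.mp this)).symm
    obtain ⟨n, hn⟩ := (Finite.injective_iff_surjective.mp hf) ⟨m, hm⟩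
    have hn' : (n : G)⁻¹ * (i * n * i⁻¹) = m := congrArg Subtype.val hn
    have hi' : i⁻¹ = i := inv_eq_of_mul_eq_one_right hii
    rw [← hn', hi']
    calc i * ((n : G)⁻¹ * (i * n * i)) * i = i * (n : G)⁻¹ * i * n * (i * i) := by group
      _ = i * (n : G)⁻¹ * i⁻¹ * n := by rw [hii, mul_one, hi']
      _ = ((n : G)⁻¹ * (i * n * i⁻¹))⁻¹ := by group
      _ = ((n : G)⁻¹ * (i * n * i))⁻¹ := by rw [hi']
  obtain ⟨cs, hs⟩ := exists_q e (Finset.mem_filter.mp sT_invol.1).1
  have hso : orderOf (cs : G) = 2 := (q_mem_invol e).mp (hs ▸ sT_invol.1)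
  have hst : (cs : G) ≠ t := fun h => sT_invol.2 (by
    rw [← hs, ← q_t e ht]; exact congrArg _ (Subtype.ext h))
  have hcomm : (cs : G) * t = t * cs := Subgroup.mem_centralizer_singleton_iff.mp cs.2
  have htt : t * t = 1 := by rw [← pow_two, ← ht, pow_orderOf_eq_one]
  have hss : (cs : G) * cs = 1 := by rw [← pow_two, ← hso, pow_orderOf_eq_one]
  have hto : orderOf ((cs : G) * t) = 2 := by
    haveI : Fact (Nat.Prime 2) := ⟨Nat.prime_two⟩
    refine orderOf_eq_prime ?_ fun h => hst ?_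
    · rw [(show Commute (cs : G) t from hcomm).mul_pow, pow_two, pow_two, hss, htt, one_mul]
    · calc (cs : G) = (cs : G) * (t * t) := by rw [htt, mul_one]
        _ = t := by rw [← mul_assoc, h, one_mul]
  rw [Subgroup.eq_bot_iff_forall]
  intro m hm
  refine hfix _ hto m hm ?_
  rw [commute_iff_eq]
  have key : (cs : G) * t * m * ((cs : G) * t)⁻¹ = m := by
    calc (cs : G) * t * m * ((cs : G) * t)⁻¹ = cs * (t * m * t⁻¹) * (cs : G)⁻¹ := by group
      _ = ((cs : G) * m * (cs : G)⁻¹)⁻¹ := by rw [hinv t ht m hm]; group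
      _ = m := by rw [hinv _ hso m hm, inv_inv]
  exact (mul_inv_eq_iff_eq_mul.mp key).symm

/-- The involutions of `C(t)` generate it. -/
theorem cent_le {N : Subgroup G} (h : ∀ i : G, orderOf i = 2 → i ∈ N) :
    Subgroup.centralizer ({t} : Set G) ≤ N := by
  intro x hx
  have hone : ∀ a ∈ insert oneT invol, ∃ c : Subgroup.centralizer ({t} : Set G),
      q e c = a ∧ (c : G) ∈ N := by
    intro a ha
    rcases Finset.mem_insert.mp ha with rfl | ha
    · exact ⟨1, q_one e, one_mem _⟩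
    · obtain ⟨c, hc⟩ := exists_q e (Finset.mem_filter.mp ha).1
      exact ⟨c, hc, h _ ((q_mem_invol e).mp (hc ▸ ha))⟩
  have htwo : ∀ a ∈ pairs, ∃ c : Subgroup.centralizer ({t} : Set G), q e c = a ∧ (c : G) ∈ N := by
    intro a ha
    simp only [pairs, Finset.mem_image, Finset.mem_product] at ha
    obtain ⟨⟨b, c⟩, ⟨hb, hc⟩, rfl⟩ := ha
    obtain ⟨b', hb', hbN⟩ := hone b hb
    obtain ⟨c', hc', hcN⟩ := hone c hc
    exact ⟨b' * c', by rw [q_mul, hb', hc'], mul_mem hbN hcN⟩
  obtain ⟨a, ha, b, hb, hab⟩ := gl_gen _ (q_mem e ⟨x, hx⟩)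
  obtain ⟨a', ha', haN⟩ := htwo a ha
  obtain ⟨b', hb', hbN⟩ := htwo b hb
  rw [← ha', ← hb', ← q_mul] at hab
  have hx' : x = (a' : G) * b' := congrArg Subtype.val (q_injective e hab)
  rw [hx']
  exact mul_mem haN hbN

/-- A normal subgroup of even order is everything. -/
theorem even_eq_top {N : Subgroup G} [N.Normal] (hN : 2 ∣ Nat.card N) : N = ⊤ := by
  haveI : Fact (Nat.Prime 2) := ⟨Nat.prime_two⟩
  obtain ⟨⟨i, hiN⟩, hi⟩ := exists_prime_orderOf_dvd_card' 2 hN
  rw [Subgroup.orderOf_mk] at hi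
  have htN : t ∈ N := by
    obtain ⟨g, hg⟩ := all_conj e ht hno hi
    have := (inferInstance : N.Normal).conj_mem i hiN g⁻¹
    rw [← hg] at this
    simpa [mul_assoc] using this
  have hinv : ∀ j : G, orderOf j = 2 → j ∈ N := by
    intro j hj
    obtain ⟨g, rfl⟩ := all_conj e ht hno hj
    exact (inferInstance : N.Normal).conj_mem t htN g
  have hC := cent_le e ht hno hinv
  obtain ⟨o, hG, ho⟩ := card_eq_sixteen_mul_odd e ht
  obtain ⟨S⟩ := (inferInstance : Nonempty (Sylow 2 N))
  have hS : Nat.card (S : Subgroup N) = 16 := by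
    have h1 : 16 ∣ Nat.card N := by
      refine dvd_trans ?_ (Subgroup.card_dvd_of_le hC)
      rw [card_centralizer e]; norm_num
    have h2 : Nat.card (S : Subgroup N) ∣ 16 * o := hG ▸
      ((Subgroup.card_subgroup_dvd_card _).trans (Subgroup.card_subgroup_dvd_card N))
    obtain ⟨n, hn⟩ := S.2.exists_card_eq
    have h3 : 2 ^ 4 ∣ Nat.card (S : Subgroup N) := by
      rw [Sylow.card_eq_multiplicity]
      exact Nat.pow_dvd_pow 2 ((Nat.Prime.pow_dvd_iff_le_factorization Nat.prime_two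
        Nat.card_pos.ne').mp h1)
    rw [hn] at h2 h3 ⊢
    have h4 : 2 ^ n ∣ 2 ^ 4 := by
      have hc : Nat.Coprime (2 ^ n) o :=
        ((Nat.prime_two.coprime_iff_not_dvd.mpr (Nat.not_even_iff_odd.mpr ho ∘
          even_iff_two_dvd.mpr)).pow_left n)
      exact hc.dvd_of_dvd_mul_right h2
    exact Nat.dvd_antisymm h4 h3
  set S' := (S : Subgroup N).map N.subtype with hS'
  have hS'c : Nat.card S' = 16 := by
    rw [hS', Nat.card_congr ((S : Subgroup N).equivMapOfInjective _ N.subtype_injective).symm.toEquiv,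
      hS]
  have hF := Sylow.normalizer_sup_eq_top S
  have hnorm : Subgroup.normalizer (S' : Set G) ≤ N := by
    haveI : Nontrivial S' := Finite.one_lt_card_iff_nontrivial.mp (by rw [hS'c]; norm_num)
    have hp : IsPGroup 2 S' := IsPGroup.of_card (n := 4) (by rw [hS'c]; norm_num)
    obtain ⟨k, hk, hcard⟩ := (hp.to_subgroup (Subgroup.center S')).nontrivial_iff_card.mp
      hp.center_nontrivial
    obtain ⟨w, hw⟩ := exists_prime_orderOf_dvd_card' (G := Subgroup.center S') 2
      (by rw [hcard]; exact dvd_pow_self 2 hk.ne')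
    set z : G := ((w : S') : G) with hz
    have hzo : orderOf z = 2 := by rw [hz, Subgroup.orderOf_coe, Subgroup.orderOf_coe, hw]
    have hzc : ∀ x ∈ S', z * x = x * z := fun x hx =>
      (congrArg Subtype.val (Subgroup.mem_center_iff.mp w.2 ⟨x, hx⟩)).symm
    obtain ⟨g, hg⟩ := all_conj e ht hno hzo
    intro n hn
    set z' := n * z * n⁻¹ with hz'
    have hz'o : orderOf z' = 2 := (MulEquiv.orderOf_eq (MulAut.conj n) z).trans hzo
    have hz'S : z' ∈ S' := (Subgroup.mem_normalizer_iff.mp hn z).mp (w : S').2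
    have hz'c : ∀ x ∈ S', z' * x = x * z' := by
      intro x hx
      have hx' : n⁻¹ * x * n ∈ S' :=
        (Subgroup.mem_normalizer_iff.mp hn _).mpr (by
          rwa [show n * (n⁻¹ * x * n) * n⁻¹ = x by group])
      calc z' * x = n * (z * (n⁻¹ * x * n)) * n⁻¹ := by rw [hz']; group
        _ = n * (n⁻¹ * x * n * z) * n⁻¹ := by rw [hzc _ hx']
        _ = x * z' := by rw [hz']; group
    have hmem : ∀ x ∈ S', g⁻¹ * x * g ∈ Subgroup.centralizer ({t} : Set G) := by
      intro x hx
      rw [Subgroup.mem_centralizer_singleton_iff]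
      calc g⁻¹ * x * g * t = g⁻¹ * (x * (g * t * g⁻¹)) * g := by group
        _ = g⁻¹ * (g * t * g⁻¹ * x) * g := by rw [hg, hzc x hx]
        _ = t * (g⁻¹ * x * g) := by group
    have hzz : z' = z := by
      set w' : Subgroup.centralizer ({t} : Set G) := ⟨g⁻¹ * z' * g, hmem _ hz'S⟩ with hw'
      have hw'o : orderOf (w' : G) = 2 := by
        rw [← hz'o]
        simpa [hw'] using MulEquiv.orderOf_eq (MulAut.conj g⁻¹) z'
      have hqt : q e w' = tT := by
        by_contra hne
        have h4 := invol_centralizer _ ((q_mem_invol e).mpr hw'o) hne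
        have hle : Nat.card S' ≤ 4 := by
          rw [← h4, ← Fintype.card_coe, ← Nat.card_eq_fintype_card]
          refine Nat.card_le_card_of_injective (fun x => ⟨q e ⟨_, hmem _ x.2⟩,
            Finset.mem_filter.mpr ⟨q_mem e _, ?_⟩⟩) fun a b hab => Subtype.ext ?_
          · rw [← q_mul, ← q_mul]
            refine congrArg (q e) (Subtype.ext ?_)
            simp only [hw', Subgroup.coe_mul]
            calc g⁻¹ * (x : G) * g * (g⁻¹ * z' * g) = g⁻¹ * ((x : G) * z') * g := by group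
              _ = g⁻¹ * (z' * (x : G)) * g := by rw [hz'c _ x.2]
              _ = g⁻¹ * z' * g * (g⁻¹ * (x : G) * g) := by group
          · have := congrArg (fun w : Subgroup.centralizer ({t} : Set G) => (w : G))
              (q_injective e (congrArg Subtype.val hab))
            simpa using this
        omega
      rw [← q_t e ht] at hqt
      have h' : g⁻¹ * z' * g = t := congrArg Subtype.val (q_injective e hqt)
      rw [← hg, ← h']; group
    have hnz : g⁻¹ * n * g ∈ Subgroup.centralizer ({t} : Set G) := by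
      rw [Subgroup.mem_centralizer_singleton_iff]
      calc g⁻¹ * n * g * t = g⁻¹ * (n * (g * t * g⁻¹) * n⁻¹ * n) * g := by group
        _ = g⁻¹ * (g * t * g⁻¹ * n) * g := by rw [hg, ← hz', hzz]
        _ = t * (g⁻¹ * n * g) := by group
    have h5 := (inferInstance : N.Normal).conj_mem _ (hC hnz) g
    rwa [show g * (g⁻¹ * n * g) * g⁻¹ = n by group] at h5
  rw [eq_top_iff, ← hF, sup_le_iff]
  exact ⟨hnorm, le_rfl⟩

theorem isSimple : IsSimpleGroup G := by
  haveI : Nontrivial G := ⟨⟨t, 1, fun h => by rw [h, orderOf_one] at ht; omega⟩⟩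
  refine ⟨fun N hN => ?_⟩
  haveI := hN
  by_cases h : 2 ∣ Nat.card N
  · exact Or.inr (even_eq_top e ht hno h)
  · exact Or.inl (odd_eq_bot e ht hno h)

end Cfsg.Agent.Lib.RecogThree.L33.Reduce
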