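import Cfsg.Agent.Lib.Induced.GL23Exceptional
import Cfsg.Agent.Lib.Classif.OrderSieve
import Cfsg.Agent.Lib.SmallGroups.Sylow

/-!
Simple groups of order `5616` with an involution centraliser `GL(2,3)`: classes of involutions,
element orders, and the number of elements of `3`-power order.
-/

set_option autoImplicit false
set_option linter.style.haveILetI false
set_option linter.unusedSectionVars false

namespace Cfsg.Agent.Lib.RecogThree.L33.Setup

open Cfsg.Agent.Lib.Induced GL23 GL23Exceptional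

universe u

theorem gl_a : pw wT 2 ∈ inv ∧ pw (pw wT 2) 3 = oneT ∧ pw wT 2 ≠ oneT ∧
    (inv.filter fun z => mu z (pw wT 2) = mu (pw wT 2) z).card = 6 ∧
    (∃ g ∈ inv, mu g (pw wT 2) = mu (pw (pw wT 2) 2) g) ∧
    (inv.filter fun z => pw z 2 ≠ oneT ∧ pw z 3 = oneT).card = 8 := by
  decide +kernel

theorem gl_three : ∀ x ∈ inv, pw x 3 = oneT → x ≠ oneT → ∃ g ∈ inv, mu g x = mu (pw wT 2) g := by
  decide +kernel

theorem gl_fibre : (inv.filter fun A => ∃ k : Fin 9, pw A k.1 = tT).card = 27 := by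
  decide +kernel

theorem gl_orders : ∀ x ∈ inv, pw x 24 = oneT := by decide +kernel

theorem gl_invol : invol.card = 13 := by decide +kernel

variable {G : Type u} [Group G] [Finite G] {t : G}
  (e : Subgroup.centralizer ({t} : Set G) ≃* Matrix.GeneralLinearGroup (Fin 2) (ZMod 3))

include e

theorem pow_24 {c : G} (hc : Commute c t) : c ^ 24 = 1 := by
  have hm : c ∈ Subgroup.centralizer ({t} : Set G) := Subgroup.mem_centralizer_singleton_iff.mpr hc
  have : (⟨c, hm⟩ : Subgroup.centralizer ({t} : Set G)) ^ 24 = 1 :=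
    q_injective e (by rw [q_pow, q_one]; exact gl_orders _ (q_mem e _))
  simpa using congrArg Subtype.val this

/-- An element of order three centralising `t`, with its centraliser and an inverting element. -/
theorem exists_a : ∃ a : G, orderOf a = 3 ∧ Commute a t ∧
    Nat.card {z : Subgroup.centralizer ({t} : Set G) // (z : G) * a = a * z} = 6 ∧
    (∃ s : G, Commute s t ∧ s * a * s⁻¹ = a ^ 2) ∧
    ∀ b : G, Commute b t → orderOf b = 3 → ∃ g : G, Commute g t ∧ g * b * g⁻¹ = a := by
  obtain ⟨hinv, h3, h1, hc6, ⟨g, hg, hga⟩, -⟩ := gl_a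
  obtain ⟨a, ha⟩ := exists_q e hinv
  haveI : Fact (Nat.Prime 3) := ⟨Nat.prime_three⟩
  have ho : orderOf (a : G) = 3 := by
    rw [Subgroup.orderOf_coe]
    refine orderOf_eq_prime (q_injective e (by rw [q_pow, q_one, ha, h3])) fun hh => h1 ?_
    rw [← ha, hh, q_one]
  refine ⟨a, ho, Subgroup.mem_centralizer_singleton_iff.mp a.2, ?_, ?_, ?_⟩
  · rw [← hc6, ← Fintype.card_coe, ← Nat.card_eq_fintype_card]
    refine Nat.card_eq_of_bijective (fun z => ⟨q e z.1, Finset.mem_filter.mpr ⟨q_mem e _, ?_⟩⟩)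
      ⟨fun x y hxy => Subtype.ext (q_injective e (congrArg Subtype.val hxy)), fun z => ?_⟩
    · rw [← ha, ← q_mul, ← q_mul]
      exact congrArg (q e) (Subtype.ext z.2)
    · obtain ⟨w, hw⟩ := exists_q e (Finset.mem_filter.mp z.2).1
      have := (Finset.mem_filter.mp z.2).2
      rw [← hw] at this
      rw [← ha, ← q_mul, ← q_mul] at this
      exact ⟨⟨w, congrArg Subtype.val (q_injective e this)⟩, Subtype.ext hw⟩
  · obtain ⟨s, hs⟩ := exists_q e hg
    refine ⟨s, Subgroup.mem_centralizer_singleton_iff.mp s.2, ?_⟩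
    rw [← ha, ← q_pow, ← hs, ← q_mul, ← q_mul] at hga
    have := congrArg Subtype.val (q_injective e hga)
    rw [mul_inv_eq_iff_eq_mul]
    simpa using this
  · intro b hb hbo
    set b' : Subgroup.centralizer ({t} : Set G) := ⟨b, Subgroup.mem_centralizer_singleton_iff.mpr hb⟩
    have hb3 : pw (q e b') 3 = oneT := by
      rw [← q_pow, ← q_one e]
      exact congrArg _ (Subtype.ext (by simp [b', ← hbo, pow_orderOf_eq_one]))
    have hb1 : q e b' ≠ oneT := by
      rw [← q_one e, (q_injective e).ne_iff]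
      intro hh
      rw [show b = ((1 : Subgroup.centralizer ({t} : Set G)) : G) from congrArg Subtype.val hh,
        OneMemClass.coe_one, orderOf_one] at hbo
      omega
    obtain ⟨x, hx, hxb⟩ := gl_three _ (q_mem e _) hb3 hb1
    obtain ⟨g, rfl⟩ := exists_q e hx
    rw [← ha, ← q_mul, ← q_mul] at hxb
    refine ⟨g, Subgroup.mem_centralizer_singleton_iff.mp g.2, ?_⟩
    rw [mul_inv_eq_iff_eq_mul]
    exact congrArg Subtype.val (q_injective e hxb)

variable (hG : Nat.card G = 5616) [IsSimpleGroup G] (ht : orderOf t = 2)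
include hG ht

theorem all_conj {i : G} (hi : orderOf i = 2) : ∃ g : G, g * t * g⁻¹ = i := by
  obtain ⟨cu, hu⟩ := exists_q e uT_mem.1
  have ou : orderOf (cu : G) = 8 := by
    haveI : Fact (Nat.Prime 2) := ⟨Nat.prime_two⟩
    rw [Subgroup.orderOf_coe]
    refine orderOf_eq_prime_pow (p := 2) (n := 2) (fun hh => ?_) (q_injective e ?_)
    · have := congrArg (q e) hh
      rw [q_pow, hu, q_one] at this
      exact oneT_ne_tT (this.symm.trans pow_data.2.1)
    · rw [q_pow, hu, q_one]; exact pow_data.1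
  have hidx : (Subgroup.zpowers (cu : G)).index % 4 = 2 := by
    have h := (Subgroup.zpowers (cu : G)).card_mul_index
    rw [Nat.card_zpowers, ou, hG] at h
    omega
  have hno : ∀ N : Subgroup G, N.index ≠ 2 := by
    intro N hN
    rcases (Subgroup.normal_of_index_eq_two hN).eq_bot_or_eq_top with h | h
    · rw [h, Subgroup.index_bot, hG] at hN; omega
    · rw [h, Subgroup.index_top] at hN; omega
  obtain ⟨g, hg⟩ := Fusion.Thompson.exists_conj_mem _ hidx hno i hi
  obtain ⟨k, hk⟩ := (mem_powers_iff_mem_zpowers.mpr hg :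
    g * i * g⁻¹ ∈ Submonoid.powers (cu : G))
  have hk' : (cu : G) ^ (k % 8) = g * i * g⁻¹ := by rw [← ou, pow_mod_orderOf]; exact hk
  have hord : orderOf ((cu ^ (k % 8) : Subgroup.centralizer ({t} : Set G)) : G) = 2 := by
    rw [Subgroup.coe_pow, hk', ← hi]
    exact MulEquiv.orderOf_eq (MulAut.conj g) i
  have h1 := (q_mem_invol e).mpr hord
  rw [q_pow, hu] at h1
  have h2 := u_involutions ⟨k % 8, Nat.mod_lt _ (by norm_num)⟩ h1
  have h3 : cu ^ (k % 8) = ⟨t, t_mem⟩ := q_injective e (by rw [q_pow, hu, q_t e ht]; exact h2)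
  refine ⟨g⁻¹, ?_⟩
  have h4 : g * i * g⁻¹ = t := by rw [← hk', ← Subgroup.coe_pow, h3]
  rw [← h4]; group

theorem conj_pow_24 {i c : G} (hi : orderOf i = 2) (hc : Commute c i) : c ^ 24 = 1 := by
  obtain ⟨g, rfl⟩ := all_conj e hG ht hi
  have : Commute (g⁻¹ * c * g) t := by
    rw [commute_iff_eq]
    calc g⁻¹ * c * g * t = g⁻¹ * (c * (g * t * g⁻¹)) * g := by group
      _ = g⁻¹ * (g * t * g⁻¹ * c) * g := by rw [hc.eq]
      _ = t * (g⁻¹ * c * g) := by group
  have h := pow_24 e this
  have e2 : (g⁻¹ * c * g) ^ 24 = g⁻¹ * c ^ 24 * g := by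
    have := conj_pow (i := 24) (a := g⁻¹) (b := c)
    rwa [inv_inv] at this
  rw [e2] at h
  calc c ^ 24 = g * (g⁻¹ * c ^ 24 * g) * g⁻¹ := by group
    _ = 1 := by rw [h]; group

variable [Fact (Nat.Prime 13)]

theorem card_P (P : Sylow 13 G) : Nat.card (P : Subgroup G) = 13 := by
  rw [SmallGroups.Sylow.card_sylow_eq P (a := 1) (m := 432) (by rw [hG]; norm_num) (by norm_num),
    pow_one]

theorem n13 : Nat.card (Sylow 13 G) = 144 := by
  have hd := SmallGroups.Sylow.card_sylow_dvd (p := 13) (G := G) (a := 1) (m := 432)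
    (by rw [hG]; norm_num) (by norm_num)
  have hm := SmallGroups.Sylow.card_sylow_mod (G := G) (p := 13)
  have key : ∀ n ∈ Nat.divisors 432, n % 13 = 1 → n = 1 ∨ n = 27 ∨ n = 144 := by decide +kernel
  rcases key _ (Nat.mem_divisors.mpr ⟨hd, by norm_num⟩) hm with h1 | h27 | h144
  · exfalso
    haveI : Subsingleton (Sylow 13 G) := (Nat.card_eq_one_iff_unique.mp h1).1
    let P : Sylow 13 G := default
    haveI : (P : Subgroup G).Characteristic := P.characteristic_of_subsingleton
    rcases (inferInstance : (P : Subgroup G).Normal).eq_bot_or_eq_top with e' | e' <;>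
      have hP := card_P e hG ht P <;> rw [e'] at hP
    · rw [Subgroup.card_bot] at hP; omega
    · rw [Subgroup.card_top, hG] at hP; omega
  · exfalso
    let P : Sylow 13 G := default
    haveI : Fact (Nat.Prime 2) := ⟨Nat.prime_two⟩
    set N := Subgroup.normalizer ((P : Subgroup G) : Set G)
    have hNc : Nat.card N = 208 := by
      have := SmallGroups.Sylow.card_normalizer_mul P
      rw [h27, hG] at this
      change Nat.card N * 27 = 5616 at this
      omega
    obtain ⟨S⟩ := (inferInstance : Nonempty (Sylow 2 N))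
    have hS : Nat.card (S : Subgroup N) = 16 :=
      SmallGroups.Sylow.card_sylow_eq S (a := 4) (m := 13) (by rw [hNc]; norm_num) (by norm_num)
    let f : (S : Subgroup N) →* MulAut (P : Subgroup G) :=
      ((P : Subgroup G).normalizerMonoidHom).comp ((S : Subgroup N).subtype)
    have hker : f.ker ≠ ⊥ := by
      intro hbot
      have hle := Subgroup.card_dvd_of_injective f ((MonoidHom.ker_eq_bot_iff f).mp hbot)
      haveI := isCyclic_of_prime_card (card_P e hG ht P)
      rw [IsCyclic.card_mulAut, card_P e hG ht P, Nat.totient_prime (by norm_num), hS] at hle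
      norm_num at hle
    obtain ⟨⟨v, hv⟩, hvo⟩ := exists_prime_orderOf_dvd_card' (G := f.ker) 2 (by
      have h16 := Subgroup.card_subgroup_dvd_card f.ker
      rw [hS, show (16 : ℕ) = 2 ^ 4 by norm_num, Nat.dvd_prime_pow Nat.prime_two] at h16
      obtain ⟨k, -, hk⟩ := h16
      rcases Nat.eq_zero_or_pos k with rfl | hk0
      · exact absurd (Subgroup.eq_bot_of_card_eq _ (by simpa using hk)) hker
      · rw [hk]; exact dvd_pow_self 2 (by omega))
    rw [Subgroup.orderOf_mk, ← Subgroup.orderOf_coe, ← Subgroup.orderOf_coe] at hvo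
    obtain ⟨⟨x, hx⟩, hxo⟩ := exists_prime_orderOf_dvd_card' (G := (P : Subgroup G)) 13
      (by rw [card_P e hG ht P])
    rw [Subgroup.orderOf_mk] at hxo
    have hcomm : Commute x ((v : N) : G) := by
      have := congrArg Subtype.val (DFunLike.congr_fun (MonoidHom.mem_ker.mp hv) ⟨x, hx⟩)
      exact (mul_inv_eq_iff_eq_mul.mp this).symm
    have h24 := orderOf_dvd_of_pow_eq_one (conj_pow_24 e hG ht hvo hcomm)
    rw [hxo] at h24
    norm_num at h24
  · exact h144

theorem card_N (P : Sylow 13 G) :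
    Nat.card (Subgroup.normalizer ((P : Subgroup G) : Set G)) = 39 := by
  have := SmallGroups.Sylow.card_normalizer_mul P
  rw [n13 e hG ht, hG] at this
  omega

/-- Elements of order `13` are self-centralising. -/
theorem cent_13 {x : G} (hx : orderOf x = 13) :
    Subgroup.centralizer ({x} : Set G) = Subgroup.zpowers x := by
  haveI : Fact (Nat.Prime 3) := ⟨Nat.prime_three⟩
  obtain ⟨P, hP⟩ := (IsPGroup.of_card (p := 13) (n := 1)
    (by rw [Nat.card_zpowers, hx, pow_one] : Nat.card (Subgroup.zpowers x) = 13 ^ 1)).exists_le_sylow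
  have hPx : Subgroup.zpowers x = (P : Subgroup G) :=
    Subgroup.eq_of_le_of_card_ge hP (by rw [card_P e hG ht P, Nat.card_zpowers, hx])
  have hle : Subgroup.centralizer ({x} : Set G) ≤
      Subgroup.normalizer ((P : Subgroup G) : Set G) := by
    rw [← hPx, Subgroup.zpowers_eq_closure, ← Subgroup.centralizer_closure]
    exact Subgroup.centralizer_le_normalizer _
  have hx' : Subgroup.zpowers x ≤ Subgroup.centralizer ({x} : Set G) :=
    Subgroup.zpowers_le.mpr (Subgroup.mem_centralizer_singleton_iff.mpr rfl)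
  have hd := Subgroup.card_dvd_of_le hle
  rw [card_N e hG ht P] at hd
  have hd' := Subgroup.card_dvd_of_le hx'
  rw [Nat.card_zpowers, hx] at hd'
  by_contra hne
  have h39 : Nat.card (Subgroup.centralizer ({x} : Set G)) = 39 := by
    obtain ⟨k, hk⟩ := hd'
    rw [hk] at hd
    have hk3 : k ∣ 3 := Nat.dvd_of_mul_dvd_mul_left (by norm_num : 0 < 13) hd
    rcases (Nat.dvd_prime Nat.prime_three).mp hk3 with rfl | rfl
    · exact absurd (Subgroup.eq_of_le_of_card_ge hx' (by rw [hk, Nat.card_zpowers, hx])).symm hne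
    · omega
  have heq : Subgroup.centralizer ({x} : Set G) = Subgroup.normalizer ((P : Subgroup G) : Set G) :=
    Subgroup.eq_of_le_of_card_ge hle (by rw [card_N e hG ht P, h39])
  have hNC : Subgroup.normalizer ((P : Subgroup G) : Set G) ≤
      Subgroup.centralizer ((P : Subgroup G) : Set G) := by
    rw [← heq, ← hPx, Subgroup.zpowers_eq_closure, Subgroup.centralizer_closure]
  exact SmallGroups.Sylow.not_normalizer_le_centralizer
    (SmallGroups.Sylow.not_comm_of_card (by rw [hG]; norm_num)) P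
    (fun e' => by have := card_P e hG ht P; rw [e', Subgroup.card_bot] at this; omega) hNC

theorem order_cases (g : G) : g ^ 24 = 1 ∨ g ^ 13 = 1 ∨ g ^ 27 = 1 := by
  haveI : Fact (Nat.Prime 2) := ⟨Nat.prime_two⟩
  have hn := orderOf_dvd_natCard g
  rw [hG] at hn
  by_cases h2 : 2 ∣ orderOf g
  · obtain ⟨m, hm⟩ := h2
    have hi : orderOf (g ^ m) = 2 := by
      have hm0 : m ≠ 0 := fun e' => by simp [e', (orderOf_pos g).ne'] at hm
      rw [orderOf_pow' _ hm0, hm, Nat.gcd_eq_right (dvd_mul_left m 2),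
        Nat.mul_div_cancel _ (Nat.pos_of_ne_zero hm0)]
    exact Or.inl (conj_pow_24 e hG ht hi ((Commute.refl g).pow_right m))
  by_cases h13 : 13 ∣ orderOf g
  · obtain ⟨m, hm⟩ := h13
    have hm0 : m ≠ 0 := fun e' => by simp [e', (orderOf_pos g).ne'] at hm
    have hx : orderOf (g ^ m) = 13 := by
      rw [orderOf_pow' _ hm0, hm, Nat.gcd_eq_right (dvd_mul_left m 13),
        Nat.mul_div_cancel _ (Nat.pos_of_ne_zero hm0)]
    have hgc : g ∈ Subgroup.zpowers (g ^ m) := by
      rw [← cent_13 e hG ht hx, Subgroup.mem_centralizer_singleton_iff]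
      exact ((Commute.refl g).pow_right m).eq
    refine Or.inr (Or.inl ?_)
    have := orderOf_dvd_of_mem_zpowers hgc
    rw [hx] at this
    exact orderOf_dvd_iff_pow_eq_one.mp this
  refine Or.inr (Or.inr (orderOf_dvd_iff_pow_eq_one.mp ?_))
  have hc : Nat.Coprime (orderOf g) (2 ^ 4 * 13) :=
    ((Nat.prime_two.coprime_iff_not_dvd.mpr h2).symm.pow_right 4).mul_right
      ((Nat.Prime.coprime_iff_not_dvd (by norm_num)).mpr h13).symm
  exact hc.dvd_of_dvd_mul_left hn

end Cfsg.Agent.Lib.RecogThree.L33.Setup
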